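import Cfsg.Agent.Lib.SuzRecog.InvolCent
import Mathlib.GroupTheory.Subgroup.Simple

/-!
The copy is the whole group.
-/

set_option autoImplicit false
set_option linter.unusedSectionVars false

namespace Cfsg.Agent.SuzRecog

open Subgroup

variable {G : Type*} [Group G] [Finite G] {S : Type*} [Group S] [Finite S] {z : G} {φ : S →* G} {a w v : S}

/-- Two involutions are conjugate or centralised by a common involution lying in the dihedral group. -/
theorem dihedral_invol {x y : G} (hx : x * x = 1) (hy : y * y = 1) (hxy : ¬ IsConj x y) :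
    ∃ i : G, i * i = 1 ∧ i ≠ 1 ∧ i * x = x * i ∧ i * y = y * i := by
  set c := x * y with hc
  have hxc : x * c * x⁻¹ = c⁻¹ := by
    rw [hc, mul_inv_rev, inv_eq_of_mul_eq_one_right hx, inv_eq_of_mul_eq_one_right hy, ← mul_assoc x x,
      hx, one_mul]
  rcases Nat.even_or_odd (orderOf c) with ⟨m, hm⟩ | ⟨m, hm⟩
  · have hpos := orderOf_pos c
    have h2 : c ^ m * c ^ m = 1 := by rw [← pow_add, ← hm, pow_orderOf_eq_one]
    have hne : c ^ m ≠ 1 := fun e => by
      have := Nat.le_of_dvd (by omega) (orderOf_dvd_of_pow_eq_one e)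
      omega
    have hx' : c ^ m * x = x * c ^ m := by
      have : x * c ^ m * x⁻¹ = c ^ m := by
        rw [← conj_pow, hxc, inv_pow, inv_eq_of_mul_eq_one_right h2]
      exact (mul_inv_eq_iff_eq_mul.1 this).symm
    refine ⟨c ^ m, h2, hne, hx', ?_⟩
    have hy' : y = x * c := by rw [hc, ← mul_assoc, hx, one_mul]
    rw [hy']
    exact ((show Commute (c ^ m) x from hx').mul_right ((Commute.refl c).pow_left m)).eq
  · exfalso
    refine hxy (isConj_iff.2 ⟨c ^ m, ?_⟩)
    have h1 : x * c ^ m * x⁻¹ = (c ^ m)⁻¹ := by rw [← conj_pow, hxc, inv_pow]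
    have h2 : (c ^ m)⁻¹ * x = x * c ^ m := (mul_inv_eq_iff_eq_mul.1 h1).symm
    calc c ^ m * x * (c ^ m)⁻¹ = (c ^ m)⁻¹⁻¹ * x * (c ^ m)⁻¹ := by rw [inv_inv]
      _ = x * ((c ^ m)⁻¹ * (c ^ m)⁻¹) := by
          have h3 : c ^ m * x = x * (c ^ m)⁻¹ := by
            calc c ^ m * x = c ^ m * x * (c ^ m * (c ^ m)⁻¹) := by group
              _ = c ^ m * (x * c ^ m) * (c ^ m)⁻¹ := by group
              _ = c ^ m * ((c ^ m)⁻¹ * x) * (c ^ m)⁻¹ := by rw [h2]
              _ = x * (c ^ m)⁻¹ := by group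
          rw [inv_inv, h3, mul_assoc]
      _ = x * c := by
          congr 1
          rw [← mul_inv_rev, ← pow_add]
          refine inv_eq_of_mul_eq_one_right ?_
          rw [← pow_succ, show m + m + 1 = orderOf c by omega, pow_orderOf_eq_one]
      _ = y := by rw [hc, ← mul_assoc, hx, one_mul]

namespace Emb

variable (E : Emb z φ a w v)
include E

theorem cent_class {i : S} (hi : i * i = 1) (hi1 : i ≠ 1) {g : G} (hg : g * φ i = φ i * g) : g ∈ φ.range := by
  rcases E.classes i hi hi1 with h | h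
  · exact E.cent_conj h hg
  · obtain ⟨c, rfl⟩ := isConj_iff.1 h
    have hk : (φ c)⁻¹ * g * φ c * φ w = φ w * ((φ c)⁻¹ * g * φ c) := by
      calc (φ c)⁻¹ * g * φ c * φ w = (φ c)⁻¹ * (g * φ (c * w * c⁻¹)) * φ c := by simp [map_mul, mul_assoc]
        _ = (φ c)⁻¹ * (φ (c * w * c⁻¹) * g) * φ c := by rw [hg]
        _ = φ w * ((φ c)⁻¹ * g * φ c) := by simp [map_mul, mul_assoc]
    obtain ⟨m, hm⟩ := E.invol_cent hk
    exact ⟨c * m * c⁻¹, by rw [map_mul, map_mul, hm, map_inv]; group⟩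

theorem mem_of_not_conj {b : G} (hb : b * b = 1) (hbz : ¬ IsConj z b) : b ∈ φ.range := by
  obtain ⟨i, hi2, hi1, hiz, hib⟩ := dihedral_invol E.z_sq hb hbz
  obtain ⟨i', rfl⟩ := E.cent i hiz
  exact E.cent_class (E.inj (by rw [map_mul, hi2, map_one])) (fun e => hi1 (by rw [e, map_one])) hib.symm

/-- The copy is everything. -/
theorem surjective [IsSimpleGroup S] : Function.Surjective φ := by
  have hN : Subgroup.normalClosure ({φ w} : Set G) ≤ φ.range := by
    refine (Subgroup.closure_le _).2 fun b hb => ?_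
    obtain ⟨u, hu, hub⟩ := Group.mem_conjugatesOfSet_iff.1 hb
    rw [Set.mem_singleton_iff.1 hu] at hub
    obtain ⟨c, rfl⟩ := isConj_iff.1 hub
    refine E.mem_of_not_conj ?_ fun h => E.not_conj_w (h.trans hub.symm)
    rw [conj_mul, ← map_mul, E.F.w2, map_one]; group
  have hnorm : φ.range.Normal := by
    have hK : ((Subgroup.normalClosure ({φ w} : Set G)).comap φ).Normal := Subgroup.normalClosure_normal.comap φ
    have hKtop : (Subgroup.normalClosure ({φ w} : Set G)).comap φ = ⊤ := by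
      rcases IsSimpleGroup.eq_bot_or_eq_top_of_normal _ hK with h | h
      · exfalso
        refine E.F.w1 (Subgroup.mem_bot.1 ?_)
        rw [← h]
        exact Subgroup.subset_normalClosure (Set.mem_singleton _)
      · exact h
    have heq : Subgroup.normalClosure ({φ w} : Set G) = φ.range := by
      refine le_antisymm hN ?_
      rintro _ ⟨x, rfl⟩
      exact (hKtop ▸ Subgroup.mem_top x : x ∈ (Subgroup.normalClosure ({φ w} : Set G)).comap φ)
    exact heq ▸ Subgroup.normalClosure_normal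
  intro g
  obtain ⟨x, hx⟩ := hnorm.conj_mem z ⟨a, E.z_eq⟩ g
  have hax : IsConj a x := E.conj_a (hx ▸ isConj_iff.2 ⟨g, rfl⟩) fun e => E.a_ne_one (E.inj (by
    rw [e, map_one] at hx
    rw [E.z_eq, map_one]
    exact conj_eq_one_iff.1 hx.symm))
  obtain ⟨m, hm⟩ := isConj_iff.1 hax
  obtain ⟨k, hk⟩ := E.cent ((φ m)⁻¹ * g) (by
    have h : g * z * g⁻¹ = φ m * z * (φ m)⁻¹ := by rw [← hx, ← hm, map_mul, map_mul, map_inv, E.z_eq]
    calc (φ m)⁻¹ * g * z = (φ m)⁻¹ * (g * z * g⁻¹) * g := by group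
      _ = z * ((φ m)⁻¹ * g) := by rw [h]; group)
  exact ⟨m * k, by rw [map_mul, hk, mul_inv_cancel_left]⟩

end Emb

end Cfsg.Agent.SuzRecog
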