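import Mathlib.GroupTheory.Perm.Cycle.Type
import Mathlib.GroupTheory.QuotientGroup.Basic
import Mathlib.Tactic.Group
import Cfsg.Agent.Lib.U43T.General4

/-!
Counting lemmas on involutory maps, used in the recognition of the Suzuki group.
-/

set_option autoImplicit false
set_option linter.unusedSectionVars false

namespace Cfsg.Agent.SuzRecog

open Subgroup

/-- An involutory map of a set of odd size has a fixed point. -/
theorem exists_fixed_of_odd {α : Type*} [Finite α] (f : α → α) (hf : ∀ x, f (f x) = x)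
    (hodd : Odd (Nat.card α)) : ∃ x, f x = x := by
  classical
  haveI := Fintype.ofFinite α
  haveI : Fact (Nat.Prime 2) := ⟨Nat.prime_two⟩
  let σ : Function.End α := f
  have hσ : σ ^ 2 ^ 1 = 1 := funext hf
  have h := Equiv.Perm.card_fixedPoints_modEq hσ
  rw [← Nat.card_eq_fintype_card (α := α)] at h
  by_contra hne
  push Not at hne
  have hemp : Fintype.card σ.fixedPoints = 0 := Fintype.card_eq_zero_iff.2 ⟨fun p => hne p.1 p.2⟩
  rw [hemp] at h
  have h2 : Nat.card α % 2 = 0 % 2 := h
  have h1 := Nat.odd_iff.1 hodd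
  omega

variable {G : Type*} [Group G] [Finite G]

/-- A group of even order has an odd number of involutions. -/
theorem odd_card_invol (h : Even (Nat.card G)) : Odd (Nat.card {x : G // x * x = 1 ∧ x ≠ 1}) := by
  classical
  haveI := Fintype.ofFinite G
  haveI : Fact (Nat.Prime 2) := ⟨Nat.prime_two⟩
  let σ : Function.End G := fun x => x⁻¹
  have hσ : σ ^ 2 ^ 1 = 1 := funext fun x => inv_inv x
  have hm := Equiv.Perm.card_fixedPoints_modEq hσ
  rw [← Nat.card_eq_fintype_card, ← Nat.card_eq_fintype_card] at hm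
  have hfix : Nat.card σ.fixedPoints = Nat.card {x : G // x * x = 1 ∧ x ≠ 1} + 1 := by
    rw [← Finite.card_option]
    refine Nat.card_congr
      { toFun := fun p => if h : p.1 = 1 then none else some ⟨p.1, ?_, h⟩
        invFun := fun o => match o with
          | none => ⟨1, inv_one⟩
          | some x => ⟨x.1, inv_eq_of_mul_eq_one_right x.2.1⟩
        left_inv := ?_
        right_inv := ?_ }
    · exact mul_eq_one_iff_eq_inv.2 (show p.1⁻¹ = p.1 from p.2).symm
    · rintro ⟨x, hx⟩
      by_cases h : x = 1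
      · subst h; simp
      · simp [h]
    · rintro (_ | ⟨x, hx⟩)
      · simp
      · simp [hx.2]
  have he := Nat.even_iff.1 h
  have h2 : Nat.card G % 2 = Nat.card σ.fixedPoints % 2 := hm
  rw [hfix] at h2
  rw [Nat.odd_iff]
  omega

/-- An involutory endomorphism without fixed involutions lives on a group of odd order. -/
theorem odd_card_of_no_fixed_invol (τ : G →* G) (hτ : ∀ x, τ (τ x) = x)
    (hfree : ∀ x, x * x = 1 → x ≠ 1 → τ x ≠ x) : Odd (Nat.card G) := by
  by_contra hne
  have hi : ∀ x : {x : G // x * x = 1 ∧ x ≠ 1}, τ x.1 * τ x.1 = 1 ∧ τ x.1 ≠ 1 := fun x =>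
    ⟨by rw [← map_mul, x.2.1, map_one], fun e => x.2.2 (by rw [← hτ x.1, e, map_one])⟩
  let f : {x : G // x * x = 1 ∧ x ≠ 1} → {x : G // x * x = 1 ∧ x ≠ 1} := fun x => ⟨τ x.1, hi x⟩
  obtain ⟨x, hx⟩ := exists_fixed_of_odd f (fun x => Subtype.ext (hτ x.1))
    (odd_card_invol (Nat.not_odd_iff_even.1 hne))
  exact hfree x.1 x.2.1 x.2.2 (congrArg Subtype.val hx)

end Cfsg.Agent.SuzRecog
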