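import Cfsg.Agent.Lib.SuzRecog.Present

/-!
A conjugate of the first involution commuting, up to that involution, with all its conjugates under the
generators of the centraliser.
-/

set_option autoImplicit false
set_option maxRecDepth 100000

namespace Cfsg.Agent.SuzRecog

open Subgroup
open Cfsg.Agent.SuzOut (okWord okWord_mem wordVal wordVal_append)
open Cfsg.Agent.RigidGraph.Suz (suzGroup graph)

attribute [local irreducible] wordVal graph RigidGraph.Suz.nodes SuzOut.lets orb54 perm54 loLevels nA nXc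

/-- The element of the extraspecial subgroup. -/
noncomputable def eX : ↥suzGroup := el (orb54.getD 0 0)

theorem eX_spec : IsConj eA eX ∧ eX ≠ eA ∧ eX * eA = eA * eX ∧
    ∀ c ∈ centA, eX * (c * eX * c⁻¹) * eX⁻¹ * (c * eX * c⁻¹)⁻¹ = 1 ∨
      eX * (c * eX * c⁻¹) * eX⁻¹ * (c * eX * c⁻¹)⁻¹ = eA := by
  have h := extra_ok
  simp only [extraOK, Bool.and_eq_true, List.all_eq_true, Bool.not_eq_true', Nat.blt_eq, List.any_eq_true,
    Nat.beq_eq, Bool.or_eq_true] at h
  obtain ⟨⟨⟨⟨⟨hgen, hcom⟩, hxm⟩, hxa⟩, hne⟩, hpos⟩ := h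
  have hmem0 : orb54.getD 0 0 ∈ orb54 := by
    rw [List.getD_eq_getElem _ _ hpos]; exact List.getElem_mem _
  refine ⟨isConj_iff.2 ⟨_, sameW_conj hxm⟩, ne_spec (okWord_commW hxa).1 (okWord_commW hxa).2 hne, commW_spec hxa,
    fun c hc => ?_⟩
  set O : Set ↥suzGroup := {y | ∃ x ∈ orb54, el x = y}
  have hstep : ∀ g ∈ genA, ∀ y ∈ O, el g * y * (el g)⁻¹ ∈ O := by
    rintro g hg _ ⟨x, hx, rfl⟩
    obtain ⟨-, ⟨g', perm⟩, -, ⟨hg', hlen⟩, hzip⟩ := hgen g hg
    obtain ⟨i, hi, rfl⟩ := List.getElem_of_mem hx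
    have hi' : i < perm.length := by simp only at hlen; omega
    obtain ⟨hlt, hsame⟩ := hzip (orb54[i], perm[i]) (by
      rw [List.mem_iff_getElem]
      exact ⟨i, by simp [hi, hi'], by simp⟩)
    refine ⟨_, ?_, (sameW_conj hsame).symm⟩
    rw [List.getD_eq_getElem _ _ hlt]; exact List.getElem_mem _
  let N : Subgroup ↥suzGroup :=
    { carrier := {g | ∀ y, y ∈ O ↔ g * y * g⁻¹ ∈ O}
      one_mem' := fun y => by simp
      mul_mem' := fun {g h} hg hh y => by
        rw [hh y, hg (h * y * h⁻¹), show g * (h * y * h⁻¹) * g⁻¹ = g * h * y * (g * h)⁻¹ by group]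
      inv_mem' := fun {g} hg y => by
        rw [hg (g⁻¹ * y * g⁻¹⁻¹), show g * (g⁻¹ * y * g⁻¹⁻¹) * g⁻¹ = y by group] }
  have hle : centA ≤ N := by
    rw [centA, closure_le]
    rintro _ ⟨g, hg, rfl⟩
    intro y
    have himg : (fun u => el g * u * (el g)⁻¹) '' O = O :=
      Set.eq_of_subset_of_ncard_le (by rintro _ ⟨u, hu, rfl⟩; exact hstep g hg u hu)
        (le_of_eq (Set.ncard_image_of_injective _ fun p q e => mul_left_cancel (mul_right_cancel e)).symm)
        (Set.toFinite _)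
    refine ⟨hstep g hg y, fun hy => ?_⟩
    rw [← himg] at hy
    obtain ⟨u, hu, e⟩ := hy
    rwa [← mul_left_cancel (mul_right_cancel e)]
  obtain ⟨x, hx, he⟩ := (hle hc eX).1 ⟨_, hmem0, rfl⟩
  rw [← he]
  rcases hcom x hx with h1 | h1
  · left
    have h2 := sameW_spec h1
    rw [wordVal_append, wordVal_append] at h2
    show el _ * el x * (el _)⁻¹ * (el x)⁻¹ = 1
    rw [el, el, h2]; group
  · right
    have h2 := sameW_spec h1
    rw [wordVal_append, wordVal_append, wordVal_append] at h2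
    show el _ * el x * (el _)⁻¹ * (el x)⁻¹ = eA
    rw [el, el, h2, eA]; group

end Cfsg.Agent.SuzRecog
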