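import Cfsg.Agent.Lib.SuzRecog.Present
import Cfsg.Agent.Lib.U43T.General3
import Mathlib.GroupTheory.Sylow

/-!
The facts on the centraliser of the four group in the group on 1782 points.
-/

set_option autoImplicit false
set_option maxRecDepth 100000
set_option linter.unusedVariables false
set_option linter.unusedSimpArgs false

namespace Cfsg.Agent.SuzRecog

open Subgroup
open Cfsg.Agent.SuzOut (okWord okWord_mem wordVal wordVal_append keyOf key_of_eq eq_one_iff act_word evW)
open Cfsg.Agent.RigidGraph (incOK incOK_pairwise cntB_eq_fin)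
open Cfsg.Agent.RigidGraph.Suz (suzGroup graph)

attribute [local irreducible] wordVal graph RigidGraph.Suz.nodes RigidGraph.permOf SuzOut.lets orb315 sylTwo reps
  nA nW nV nU nS nFive nSeven nUc

theorem list_ncard_of_codes {α : Type*} (l : List α) (f : α → List ℕ) (hw : ∀ a ∈ l, okWord (f a) = true)
    (hinc : incOK id (l.map fun a => codeW (f a)) = true) :
    {x | ∃ a ∈ l, wordVal (f a) = x}.ncard = l.length := by
  classical
  have hnd : (l.map fun a => wordVal (f a)).Nodup := by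
    refine List.pairwise_map.2 (List.Pairwise.imp_of_mem ?_ (List.pairwise_map.1 (incOK_pairwise hinc)))
    intro a b ha hb hlt he
    have hk := key_of_eq (okWord_mem (hw a ha)) (okWord_mem (hw b hb)) he
    simp only [id, codeW, hk] at hlt
    exact lt_irrefl _ hlt
  have hset : {x | ∃ a ∈ l, wordVal (f a) = x} = ((l.map fun a => wordVal (f a)).toFinset : Set ↥suzGroup) := by
    ext x; simp
  rw [hset, Set.ncard_coe_finset, List.toFinset_card_of_nodup hnd, List.length_map]

/-- The centraliser of the four group. -/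
noncomputable def cent4 : Subgroup ↥suzGroup := centralizer ({eW} : Set ↥suzGroup) ⊓ centralizer ({eV} : Set ↥suzGroup)

theorem mem_cent4 {x : ↥suzGroup} : x ∈ cent4 ↔ InH eW eV x := by
  simp [cent4, mem_centralizer_singleton_iff, InH]

theorem inH_of_comm {x : List ℕ} (h1 : commW x wW = true) (h2 : commW x wV = true) : InH eW eV (wordVal x) :=
  ⟨commW_spec h1, commW_spec h2⟩

/-- The members of the class, by rows. -/
noncomputable def classSet : Set ↥suzGroup := {x | ∃ r ∈ orb315, el r.1 = x}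

theorem class_rows : (∀ r ∈ orb315, el r.2 ∈ cent4 ∧ el r.2 * eU * (el r.2)⁻¹ = el r.1) ∧ classSet.ncard = 315 ∧
    el (orb315.getD tri.1 (0, 0)).1 * el (orb315.getD tri.2.1 (0, 0)).1 = el (orb315.getD tri.2.2 (0, 0)).1 ∧
    el (orb315.getD tri.1 (0, 0)).1 * el (orb315.getD tri.2.1 (0, 0)).1 =
      el (orb315.getD tri.2.1 (0, 0)).1 * el (orb315.getD tri.1 (0, 0)).1 ∧
    orb315.length = 315 ∧ tri.1 < 315 ∧ tri.2.1 < 315 ∧ tri.2.2 < 315 := by
  have h := class_ok
  simp only [classOK, Bool.and_eq_true, List.all_eq_true, Nat.blt_eq, Nat.beq_eq] at h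
  obtain ⟨⟨⟨⟨⟨⟨⟨hall, hinc⟩, hlen⟩, h1⟩, h2⟩, h3⟩, hprod⟩, hcomm⟩ := h
  refine ⟨fun r hr => ⟨mem_cent4.2 (inH_of_comm (hall r hr).1.1 (hall r hr).1.2), ?_⟩, ?_, ?_, ?_, hlen, h1, h2, h3⟩
  · have hh := (hall r hr).2
    have h4 := sameW_spec hh
    rw [wordVal_append, wordVal_append] at h4
    exact mul_inv_eq_iff_eq_mul.2 h4.symm
  · rw [← hlen]
    refine list_ncard_of_codes orb315 (fun r => dW r.1) (fun r hr => ?_) hinc
    have hh := (hall r hr).2
    simp only [sameW, Bool.and_eq_true, okWord_append] at hh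
    exact hh.1.1.1
  · have h4 := sameW_spec hprod
    rwa [wordVal_append] at h4
  · exact commW_spec hcomm

/-- The listed elements centralising the base of the class. -/
noncomputable def sylSet : Set ↥suzGroup := {x | ∃ r ∈ sylTwo, el r.1 = x}

theorem syl_rows : (∀ r ∈ sylTwo, InH eW eV (el r.1) ∧ el r.1 * eU = eU * el r.1 ∧ rowT r = true) ∧
    sylSet.ncard = 256 := by
  have h := syl_ok
  simp only [sylOK, Bool.and_eq_true, List.all_eq_true, Nat.beq_eq] at h
  obtain ⟨⟨hall, hinc⟩, hlen⟩ := h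
  have hr : ∀ r ∈ sylTwo, commW (dW r.1) wW = true ∧ commW (dW r.1) wV = true ∧ commW (dW r.1) wU = true :=
    fun r hr => by
      have h1 := hall r hr
      simp only [rowT, Bool.and_eq_true] at h1
      exact ⟨h1.1.1.1, h1.1.1.2, h1.1.2⟩
  refine ⟨fun r hm => ⟨inH_of_comm (hr r hm).1 (hr r hm).2.1, commW_spec (hr r hm).2.2, hall r hm⟩, ?_⟩
  rw [← hlen]
  exact list_ncard_of_codes sylTwo (fun r => dW r.1) (fun r hm => (okWord_commW (hr r hm).1).1) hinc

theorem not_conj_aw : ¬ IsConj eA eW ∧ ¬ IsConj eA eV ∧ ¬ IsConj eA (eW * eV) := by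
  obtain ⟨-, -, -, -, -, -, -, fA, fW, fV, fWV, -⟩ := basic_spec
  have h := basic_ok
  simp only [basicOK, Bool.and_eq_true] at h
  have hwv : commW wW wV = true := h.1.1.1.1.1.1.1.1.1.2
  obtain ⟨hw, hv⟩ := okWord_commW hwv
  have ha : okWord wA = true := by
    have h1 := h.1.1.1.1.1.1.1.1.1.1.1.1.1.1.1
    simp only [oneW, Bool.and_eq_true, okWord_append] at h1
    exact h1.1.1
  refine ⟨not_conj_of_fix ?_, not_conj_of_fix ?_, not_conj_of_fix ?_⟩
  · rw [eA, eW, fixW_eq ha, fixW_eq hw, fA, fW]; decide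
  · rw [eA, eV, fixW_eq ha, fixW_eq hv, fA, fV]; decide
  · rw [eA, eW, eV, ← wordVal_append, fixW_eq ha, fixW_eq (by rw [okWord_append, hw, hv]; rfl), fA, fWV]
    decide

theorem conj_a_u : IsConj eA eU := isConj_iff.2 ⟨_, basic_spec.2.2.2.2.2.2.2.2.2.2.2.2.2.2.2⟩

theorem eU_mem : eU ∈ cent4 :=
  mem_cent4.2 ⟨basic_spec.2.2.2.2.2.2.2.2.2.2.2.2.2.1, basic_spec.2.2.2.2.2.2.2.2.2.2.2.2.2.2.1⟩

theorem conj_eV_cases {c : ↥suzGroup} (hc : c ∈ cent4) : c * eV * c⁻¹ = eV :=
  mul_inv_eq_iff_eq_mul.2 (mem_cent4.1 hc).2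

theorem counts : Nat.card cent4 = 80640 ∧
    Nat.card ↥(cent4 ⊓ centralizer ({eU} : Set ↥suzGroup)) = 256 ∧
    {y | ∃ q ∈ cent4, q * eU * q⁻¹ = y}.ncard = 315 ∧
    ∀ c, c * eW = eW * c → c * eV * c⁻¹ = eV ∨ c * eV * c⁻¹ = eW * eV := by
  obtain ⟨-, hw2, hv2, hw1, -, -, hwv, -, -, -, -, hs, hsv, -⟩ := basic_spec
  set D := centralizer ({eW} : Set ↥suzGroup)
  have hle : cent4 ≤ D := inf_le_left
  have hT : 256 ≤ Nat.card ↥(cent4 ⊓ centralizer ({eU} : Set ↥suzGroup)) := by
    rw [← syl_rows.2, show Nat.card ↥(cent4 ⊓ centralizer ({eU} : Set ↥suzGroup)) =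
      ((cent4 ⊓ centralizer ({eU} : Set ↥suzGroup) : Subgroup ↥suzGroup) : Set ↥suzGroup).ncard from
        Nat.card_coe_set_eq _]
    refine Set.ncard_le_ncard ?_
    rintro _ ⟨r, hr, rfl⟩
    exact mem_inf.2 ⟨mem_cent4.2 (syl_rows.1 r hr).1, mem_centralizer_singleton_iff.2 (syl_rows.1 r hr).2.1⟩
  have hO : 315 ≤ {y | ∃ q ∈ cent4, q * eU * q⁻¹ = y}.ncard := by
    rw [← class_rows.2.1]
    refine Set.ncard_le_ncard ?_
    rintro _ ⟨r, hr, rfl⟩
    exact ⟨el r.2, class_rows.1 r hr⟩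
  have horb := U43T.card_eq_orbit cent4 eU
  have hsD : el nS ∈ D := mem_centralizer_singleton_iff.2 hs
  have hsout : el nS ∉ cent4 := fun h => by
    have h1 := conj_eV_cases h
    rw [hsv] at h1
    exact hw1 (mul_eq_right.1 h1)
  have hdisj : Disjoint (cent4 : Set ↥suzGroup) ((fun c => el nS * c) '' cent4) :=
    Set.disjoint_left.2 fun x hx => by
      rintro ⟨c, hc, rfl⟩
      exact hsout ((mul_mem_cancel_right hc).1 hx)
  have hsub : (cent4 : Set ↥suzGroup) ∪ (fun c => el nS * c) '' cent4 ⊆ D := by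
    rintro x (hx | ⟨c, hc, rfl⟩)
    · exact hle hx
    · exact mul_mem hsD (hle hc)
  have hcs : ((cent4 : Set ↥suzGroup) ∪ (fun c => el nS * c) '' cent4).ncard = 2 * Nat.card cent4 := by
    rw [Set.ncard_union_eq hdisj (Set.toFinite _) (Set.toFinite _),
      Set.ncard_image_of_injective _ (mul_right_injective _), two_mul]
    congr 1 <;> exact (Nat.card_coe_set_eq _).symm
  have hD : Nat.card D = (D : Set ↥suzGroup).ncard := Nat.card_coe_set_eq _
  have h2 : 2 * Nat.card cent4 ≤ 161280 := by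
    rw [← hcs]
    exact (Set.ncard_le_ncard hsub).trans (hD ▸ card_centW)
  have hmul := Nat.mul_le_mul hT hO
  rw [← horb] at hmul
  have hcard : Nat.card cent4 = 80640 := by omega
  rw [hcard] at horb
  have hT' : Nat.card ↥(cent4 ⊓ centralizer ({eU} : Set ↥suzGroup)) = 256 := by
    nlinarith [Nat.mul_le_mul hT hO]
  refine ⟨hcard, hT', by rw [hT'] at horb; omega, fun c hc => ?_⟩
  have hall : (cent4 : Set ↥suzGroup) ∪ (fun c => el nS * c) '' cent4 = D :=
    Set.eq_of_subset_of_ncard_le hsub (by rw [hcs, hcard, ← hD]; exact card_centW)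
  have hcD : c ∈ (D : Set ↥suzGroup) := mem_centralizer_singleton_iff.2 hc
  rw [← hall] at hcD
  rcases hcD with h | ⟨c', hc', rfl⟩
  · exact Or.inl (conj_eV_cases h)
  · refine Or.inr ?_
    rw [show el nS * c' * eV * (el nS * c')⁻¹ = el nS * (c' * eV * c'⁻¹) * (el nS)⁻¹ by group, conj_eV_cases hc', hsv]

theorem orbit_eq : {y | ∃ q ∈ cent4, q * eU * q⁻¹ = y} = classSet := by
  refine (Set.eq_of_subset_of_ncard_le ?_ (le_of_eq (counts.2.2.1.trans class_rows.2.1.symm))).symm
  rintro _ ⟨r, hr, rfl⟩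
  exact ⟨el r.2, class_rows.1 r hr⟩

/-- The translates of the base are not listed. -/
noncomputable def translateOK : Bool :=
  orb315.all fun r => [1, 2, 3].all fun e =>
    okWord (dW r.1) && okWord (wU ++ fourW e) && !(keyOf (dW r.1) == keyOf (wU ++ fourW e))

theorem translate_ok : translateOK = true := by
  unfold translateOK
  decide +kernel

theorem translate_not_listed {e : ℕ} (h : eU * wordVal (fourW e) ∈ classSet) (he : e < 4) (he0 : e ≠ 0) : False := by
  obtain ⟨r, hr, hre⟩ := h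
  have h' := translate_ok
  simp only [translateOK, List.all_eq_true, Bool.and_eq_true, Bool.not_eq_true'] at h'
  obtain ⟨⟨h1, h2⟩, h3⟩ := h' r hr e (by interval_cases e <;> simp_all)
  exact ne_spec h1 h2 h3 (hre.trans (wordVal_append wU (fourW e)).symm)

theorem mem_sylSet {x : ↥suzGroup} (h : x ∈ cent4) (hu : x * eU = eU * x) : x ∈ sylSet := by
  have hsub : sylSet ⊆ ((cent4 ⊓ centralizer ({eU} : Set ↥suzGroup) : Subgroup ↥suzGroup) : Set ↥suzGroup) := by
    rintro _ ⟨r, hr, rfl⟩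
    exact mem_inf.2 ⟨mem_cent4.2 (syl_rows.1 r hr).1, mem_centralizer_singleton_iff.2 (syl_rows.1 r hr).2.1⟩
  rw [Set.eq_of_subset_of_ncard_le hsub (le_of_eq (by
    rw [syl_rows.2, ← counts.2.1]; exact (Nat.card_coe_set_eq _).symm))]
  exact mem_inf.2 ⟨h, mem_centralizer_singleton_iff.2 hu⟩

/-- Every element whose order divides four is conjugate to a listed one. -/
theorem exists_conj_syl {x : ↥suzGroup} (hx : x ∈ cent4) (h4 : x ^ 4 = 1) :
    ∃ c ∈ cent4, ∃ r ∈ sylTwo, c * x * c⁻¹ = el r.1 := by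
  haveI : Fact (Nat.Prime 2) := ⟨Nat.prime_two⟩
  set K := (cent4 ⊓ centralizer ({eU} : Set ↥suzGroup)).subgroupOf cent4
  have hK : Nat.card K = 256 := by
    rw [Nat.card_congr (subgroupOfEquivOfLe inf_le_left).toEquiv, counts.2.1]
  have hfac : (Nat.card cent4).factorization 2 = 8 := by
    rw [counts.1]
    rw [Nat.factorization_def _ Nat.prime_two,
      show 80640 = 2 ^ 8 * 315 by norm_num, padicValNat.mul (by norm_num) (by norm_num), padicValNat.prime_pow,
      padicValNat.eq_zero_of_not_dvd (by norm_num)]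
  let P : Sylow 2 cent4 := Sylow.ofCard K (by rw [hK, hfac]; norm_num)
  have hp : IsPGroup 2 (zpowers (⟨x, hx⟩ : cent4)) := by
    intro y
    refine ⟨2, Subtype.ext ?_⟩
    obtain ⟨i, hi⟩ := mem_zpowers_iff.1 y.2
    rw [SubmonoidClass.coe_pow, ← hi, OneMemClass.coe_one, ← zpow_natCast, ← zpow_mul, mul_comm, zpow_mul,
      zpow_natCast, show (⟨x, hx⟩ : cent4) ^ 2 ^ 2 = 1 from Subtype.ext (by
        rw [SubmonoidClass.coe_pow]; exact h4), one_zpow]
  obtain ⟨R, hR⟩ := hp.exists_le_sylow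
  obtain ⟨c, hc⟩ := MulAction.exists_smul_eq cent4 R P
  have hmem : c * ⟨x, hx⟩ * c⁻¹ ∈ (P : Subgroup cent4) := by
    rw [← hc]
    exact ⟨⟨x, hx⟩, hR (mem_zpowers _), rfl⟩
  rw [Sylow.coe_ofCard, mem_subgroupOf, mem_inf] at hmem
  obtain ⟨r, hr, he⟩ := mem_sylSet hmem.1 (mem_centralizer_singleton_iff.1 hmem.2)
  exact ⟨c, c.2, r, hr, by rw [he]; rfl⟩

/-- The four elements. -/
noncomputable def four4 (e : ℕ) : ↥suzGroup := wordVal (fourW e)

theorem four4_spec {e : ℕ} (he : e < 4) :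
    InV eW eV (four4 e) ∧ (e = 0 → four4 e = 1) := by
  interval_cases e
  · exact ⟨Or.inl SuzOut.val_nil, fun _ => SuzOut.val_nil⟩
  · exact ⟨Or.inr (Or.inl rfl), fun h => absurd h (by norm_num)⟩
  · exact ⟨Or.inr (Or.inr (Or.inl rfl)), fun h => absurd h (by norm_num)⟩
  · exact ⟨Or.inr (Or.inr (Or.inr (wordVal_append wW wV))), fun h => absurd h (by norm_num)⟩

theorem inV_four4 {x : ↥suzGroup} (h : InV eW eV x) : ∃ e < 4, x = four4 e := by
  rcases h with h | h | h | h
  · exact ⟨0, by norm_num, h.trans SuzOut.val_nil.symm⟩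
  · exact ⟨1, by norm_num, h⟩
  · exact ⟨2, by norm_num, h⟩
  · exact ⟨3, by norm_num, h.trans (wordVal_append wW wV).symm⟩

/-- The normal form of an element with square in the four group. -/
theorem normal_form {x : ↥suzGroup} (hx : InH eW eV x) (hsq : InV eW eV (x * x))
    (hV2 : ∀ y, InV eW eV y → y * y = 1) :
    ∃ c ∈ cent4, (InV eW eV (c * x * c⁻¹)) ∨
      ∃ u ∈ classSet, ∃ e < 4, c * x * c⁻¹ = u * four4 e ∧ (e ≠ 0 → IsConj eW (u * four4 e)) := by
  obtain ⟨c, hc, r, hr, he⟩ := exists_conj_syl (mem_cent4.2 hx)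
    (by rw [show x ^ 4 = (x * x) * (x * x) by simp [pow_succ, mul_assoc], hV2 _ hsq])
  refine ⟨c, hc, ?_⟩
  have h := (syl_rows.1 r hr).2.2
  obtain ⟨t, ta, tb⟩ := r
  simp only [rowT, Bool.and_eq_true] at h
  obtain ⟨-, h⟩ := h
  rcases Nat.lt_or_ge ta 2 with hta | hta
  · interval_cases ta
    · simp only [Nat.beq_refl, cond_true, Bool.and_eq_true, Nat.blt_eq] at h
      left
      rw [he, show el t = four4 tb from sameW_spec h.2]
      exact (four4_spec h.1).1
    · exfalso
      simp only [show Nat.beq 1 0 = false from rfl, cond_false, Nat.beq_refl, cond_true, List.all_eq_true,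
        List.mem_range, Bool.not_eq_true'] at h
      have hxx : c * (x * x) * c⁻¹ = x * x := mul_inv_eq_iff_eq_mul.2 (by
        rcases hsq with h' | h' | h' | h' <;> rw [h']
        · simp
        · exact (mem_cent4.1 hc).1
        · exact (mem_cent4.1 hc).2
        · exact ((show Commute c eW from (mem_cent4.1 hc).1).mul_right (show Commute c eV from (mem_cent4.1 hc).2)).eq)
      obtain ⟨e, he4, hee⟩ := inV_four4 hsq
      have h1 : el t * el t = four4 e := by
        rw [← he, conj_mul, hxx, hee]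
      have h2 := h e he4
      rw [beq_eq_false_iff_ne] at h2
      refine h2 ?_
      have hcomm := (syl_rows.1 _ hr).2.2
      simp only [rowT, Bool.and_eq_true] at hcomm
      have hk : okWord (dW t) = true := (okWord_commW hcomm.1.1.1).1
      have hf : okWord (fourW e) = true := by
        have h3 := basic_ok
        simp only [basicOK, Bool.and_eq_true] at h3
        obtain ⟨hw, hv⟩ := okWord_commW h3.1.1.1.1.1.1.1.1.1.2
        interval_cases e <;> simp [fourW, hw, hv, okWord_append] <;> rfl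
      refine key_of_eq (okWord_mem (by rw [okWord_append, hk]; rfl)) (okWord_mem hf) ?_
      rw [wordVal_append]
      exact h1
  · obtain ⟨e, rfl⟩ : ∃ e, ta = e + 2 := ⟨ta - 2, by omega⟩
    simp only [show Nat.beq (e + 2) 0 = false from rfl, show Nat.beq (e + 2) 1 = false from rfl, cond_false,
      Bool.and_eq_true, Nat.blt_eq, Nat.add_sub_cancel] at h
    obtain ⟨⟨he4, htb⟩, hsame⟩ := h
    right
    set R := reps.getD tb (0, 0, 0, 0) with hR
    have hRm : R ∈ reps := by rw [hR, List.getD_eq_getElem _ _ htb]; exact List.getElem_mem _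
    have hrep := List.all_eq_true.1 reps_ok R hRm
    simp only [repOK, Bool.and_eq_true, Nat.blt_eq, List.all_cons, List.all_nil, and_true] at hrep
    obtain ⟨hj, h1, h2, h3⟩ := hrep
    have hmem : orb315.getD R.1 (0, 0) ∈ orb315 := by
      rw [List.getD_eq_getElem _ _ (by rw [class_rows.2.2.2.2.1]; exact hj)]; exact List.getElem_mem _
    refine ⟨el (orb315.getD R.1 (0, 0)).1, ⟨_, hmem, rfl⟩, e, he4, ?_, fun hne => ?_⟩
    · rw [he]
      have h5 := sameW_spec hsame
      rwa [wordVal_append] at h5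
    · have key : ∀ {p : List ℕ}, sameW (p ++ wW) (dW (orb315.getD R.1 (0, 0)).1 ++ fourW e ++ p) = true →
          IsConj eW (el (orb315.getD R.1 (0, 0)).1 * four4 e) := fun {p} hp => by
        refine isConj_iff.2 ⟨wordVal p, ?_⟩
        have h6 := sameW_conj hp
        rwa [wordVal_append] at h6
      interval_cases e
      · exact absurd rfl hne
      · exact key h1
      · exact key h2
      · exact key h3

theorem sylOdd_spec : ∀ q : ℕ × ℕ × ℕ, q = (5, nFive, 2) ∨ q = (7, nSeven, 0) →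
    el q.2.1 ∈ cent4 ∧ orderOf (el q.2.1) = q.1 ∧ (fixSet eW ∩ fixSet (el q.2.1)).ncard = q.2.2 := by
  have h := sylOdd_ok
  simp only [sylOddOK, Bool.and_eq_true, Nat.beq_eq] at h
  obtain ⟨⟨⟨⟨⟨⟨⟨⟨⟨h5n, h5w⟩, h5v⟩, h5p⟩, h5f⟩, h7n⟩, h7w⟩, h7v⟩, h7p⟩, h7f⟩ := h
  have main : ∀ (p : ℕ) [Fact p.Prime] (m k : ℕ), neOneW (dW m) = true → commW (dW m) wW = true →
      commW (dW m) wV = true → oneW (List.replicate p (dW m)).flatten = true → fixW2 wW (dW m) = k →
      el m ∈ cent4 ∧ orderOf (el m) = p ∧ (fixSet eW ∩ fixSet (el m)).ncard = k := by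
    intro p _ m k hn hw hv hp hf
    refine ⟨mem_cent4.2 (inH_of_comm hw hv), orderOf_eq_prime ?_ (neOneW_spec hn), ?_⟩
    · rw [← oneW_spec hp]
      clear hp
      induction p with
      | zero => simpa using SuzOut.val_nil.symm
      | succ p ih => rw [List.replicate_succ, List.flatten_cons, wordVal_append, pow_succ', ih]; rfl
    · rw [← hf, fixW2, cntB_eq_fin, ← Set.ncard_coe_finset]
      congr 1
      obtain ⟨hm, hW⟩ := okWord_commW hw
      ext q
      simp only [fixSet, Set.mem_inter_iff, Set.mem_ofPred_eq, Finset.mem_coe, Finset.mem_filter,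
        Finset.mem_univ, true_and, Nat.beq_eq, Bool.and_eq_true]
      rw [eW, el, ← act_word _ (okWord_mem hW) q, ← act_word _ (okWord_mem hm) q, Fin.ext_iff, Fin.ext_iff]
  haveI : Fact (Nat.Prime 5) := ⟨by norm_num⟩
  haveI : Fact (Nat.Prime 7) := ⟨by norm_num⟩
  rintro q (rfl | rfl)
  · exact main 5 nFive 2 h5n h5w h5v h5p h5f
  · exact main 7 nSeven 0 h7n h7w h7v h7p h7f

theorem fix_conj_inter {c g : ↥suzGroup} (hc : c * eW = eW * c) :
    (fixSet eW ∩ fixSet (c * g * c⁻¹)).ncard = (fixSet eW ∩ fixSet g).ncard := by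
  rw [← Set.ncard_image_of_injective (fixSet eW ∩ fixSet g) (c : Equiv.Perm (Fin 1782)).injective]
  congr 1
  ext p
  have hcw : ∀ q, (eW : Equiv.Perm (Fin 1782)) ((c : Equiv.Perm (Fin 1782)) q) =
      (c : Equiv.Perm (Fin 1782)) ((eW : Equiv.Perm (Fin 1782)) q) := fun q =>
    (congrArg (fun x : ↥suzGroup => (x : Equiv.Perm (Fin 1782)) q) hc).symm
  simp only [fixSet, Set.mem_inter_iff, Set.mem_ofPred_eq, Set.mem_image, Subgroup.coe_mul, Subgroup.coe_inv,
    Equiv.Perm.mul_apply]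
  constructor
  · rintro ⟨h1, h2⟩
    refine ⟨(c : Equiv.Perm (Fin 1782))⁻¹ p, ⟨(c : Equiv.Perm (Fin 1782)).injective ?_,
      (c : Equiv.Perm (Fin 1782)).injective ?_⟩, by simp⟩
    · rw [← hcw]; simpa using h1
    · simpa using h2
  · rintro ⟨q, ⟨h1, h2⟩, rfl⟩
    exact ⟨by rw [hcw, h1], by simp [h2]⟩

/-- Elements of order five or seven in the centraliser of the four group. -/
theorem fix_of_order {p m k : ℕ} [Fact p.Prime] (hm : el m ∈ cent4) (hom : orderOf (el m) = p)
    (hk : (fixSet eW ∩ fixSet (el m)).ncard = k) (hpp : (Nat.card cent4).factorization p = 1)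
    {x : ↥suzGroup} (hx : x ∈ cent4) (hox : orderOf x = p) : (fixSet eW ∩ fixSet x).ncard = k := by
  have hK : Nat.card (zpowers (⟨el m, hm⟩ : cent4)) = p := by
    rw [Nat.card_zpowers, ← orderOf_coe, hom]
  let P : Sylow p cent4 := Sylow.ofCard (zpowers (⟨el m, hm⟩ : cent4)) (by rw [hK, hpp, pow_one])
  have hcardx : Nat.card (zpowers (⟨x, hx⟩ : cent4)) = p := by rw [Nat.card_zpowers, ← orderOf_coe, hox]
  have hp : IsPGroup p (zpowers (⟨x, hx⟩ : cent4)) :=
    IsPGroup.of_card (n := 1) (by rw [hcardx, pow_one])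
  obtain ⟨R, hR⟩ := hp.exists_le_sylow
  obtain ⟨c, hc⟩ := MulAction.exists_smul_eq cent4 R P
  have hmem : c * ⟨x, hx⟩ * c⁻¹ ∈ (P : Subgroup cent4) := by
    rw [← hc]
    exact ⟨⟨x, hx⟩, hR (mem_zpowers _), rfl⟩
  rw [Sylow.coe_ofCard] at hmem
  set y : cent4 := c * ⟨x, hx⟩ * c⁻¹
  have hy : orderOf y = p := by
    show orderOf (MulAut.conj c ⟨x, hx⟩) = p
    rw [MulEquiv.orderOf_eq, ← orderOf_coe, hox]
  have heq : zpowers y = zpowers (⟨el m, hm⟩ : cent4) :=
    eq_of_le_of_card_ge (zpowers_le.2 hmem) (by rw [hK, Nat.card_zpowers, hy])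
  have hfix : ∀ a b : cent4, a ∈ zpowers b → fixSet (b : ↥suzGroup) ⊆ fixSet (a : ↥suzGroup) := by
    intro a b hab q hq
    obtain ⟨i, rfl⟩ := hab
    have hst : ((b : ↥suzGroup) : Equiv.Perm (Fin 1782)) ∈ MulAction.stabilizer (Equiv.Perm (Fin 1782)) q := hq
    have := zpow_mem hst i
    simpa [fixSet] using this
  have hs : fixSet (y : ↥suzGroup) = fixSet (el m) := Set.Subset.antisymm
    (hfix ⟨el m, hm⟩ y (heq ▸ mem_zpowers _)) (hfix y ⟨el m, hm⟩ hmem)
  rw [← hk, ← hs]
  exact (fix_conj_inter (mem_cent4.1 c.2).1).symm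

theorem no_commuting {x y : ↥suzGroup} (hx : x ∈ cent4) (hy : y ∈ cent4) (hox : orderOf x = 5)
    (hoy : orderOf y = 7) : x * y ≠ y * x := by
  intro hxy
  haveI : Fact (Nat.Prime 5) := ⟨by norm_num⟩
  haveI : Fact (Nat.Prime 7) := ⟨by norm_num⟩
  have f5 : (80640 : ℕ).factorization 5 = 1 := by
    rw [Nat.factorization_def _ (Fact.out : Nat.Prime 5), show 80640 = 5 ^ 1 * 16128 by norm_num,
      padicValNat.mul (by norm_num) (by norm_num), padicValNat.prime_pow,
      padicValNat.eq_zero_of_not_dvd (by norm_num)]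
  have f7 : (80640 : ℕ).factorization 7 = 1 := by
    rw [Nat.factorization_def _ (Fact.out : Nat.Prime 7), show 80640 = 7 ^ 1 * 11520 by norm_num,
      padicValNat.mul (by norm_num) (by norm_num), padicValNat.prime_pow,
      padicValNat.eq_zero_of_not_dvd (by norm_num)]
  obtain ⟨h5, o5, k5⟩ := sylOdd_spec _ (Or.inl rfl)
  obtain ⟨h7, o7, k7⟩ := sylOdd_spec _ (Or.inr rfl)
  have hx2 := fix_of_order h5 o5 k5 (by rw [counts.1, f5]) hx hox
  have hy0 := fix_of_order h7 o7 k7 (by rw [counts.1, f7]) hy hoy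
  obtain ⟨q, r, hqr, hset⟩ := Set.ncard_eq_two.1 hx2
  set Y : Equiv.Perm (Fin 1782) := ((y : ↥suzGroup) : Equiv.Perm (Fin 1782))
  have hperm : ∀ p, p ∈ fixSet eW ∩ fixSet x → Y p ∈ fixSet eW ∩ fixSet x := by
    rintro p ⟨h1, h2⟩
    have e1 := congrArg (fun g : ↥suzGroup => (g : Equiv.Perm (Fin 1782)) p) (mem_cent4.1 hy).1
    have e2 := congrArg (fun g : ↥suzGroup => (g : Equiv.Perm (Fin 1782)) p) hxy
    simp only [Subgroup.coe_mul, Equiv.Perm.mul_apply] at e1 e2
    simp only [fixSet, Set.mem_ofPred_eq] at h1 h2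
    rw [h1] at e1
    rw [h2] at e2
    exact ⟨e1.symm, e2⟩
  have hY7 : Y ^ 7 = 1 := by
    have h := pow_orderOf_eq_one y
    rw [hoy] at h
    exact congrArg Subtype.val h
  have hq : q ∈ fixSet eW ∩ fixSet x := by rw [hset]; simp
  have hfixq : Y q = q := by
    have h1 := hperm q hq
    rw [hset] at h1
    rcases h1 with h1 | h1
    · exact h1
    · have hr : r ∈ fixSet eW ∩ fixSet x := by rw [hset]; simp
      have h2 := hperm r hr
      rw [hset] at h2
      rcases h2 with h2 | h2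
      · have hsq : Y (Y q) = q := by rw [Set.mem_singleton_iff.1 h1]; exact h2
        have h6 : Y (Y (Y (Y (Y (Y (Y q)))))) = q := congrArg (fun g : Equiv.Perm (Fin 1782) => g q) hY7
        rw [hsq, hsq, hsq] at h6
        exact h6
      · exact absurd (Y.injective ((Set.mem_singleton_iff.1 h1).trans (Set.mem_singleton_iff.1 h2).symm)) hqr
  have hmem : q ∈ fixSet eW ∩ fixSet y := ⟨hq.1, hfixq⟩
  rw [(Set.ncard_eq_zero (Set.toFinite _)).1 hy0] at hmem
  exact hmem

theorem facts : Facts eA eW eV := by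
  obtain ⟨ha, hw, hv, hw1, hv1, hvw, hwv, -, -, -, -, hs, hsv, -⟩ := basic_spec
  obtain ⟨hn1, hn2, hn3⟩ := not_conj_aw
  have hV : ∀ e, InV eW eV e → e * e = 1 := by
    rintro e (rfl | rfl | rfl | rfl)
    · exact one_mul 1
    · exact hw
    · exact hv
    · rw [mul_assoc, hwv, ← mul_assoc eV eV, hv, one_mul, hw]
  have hnotV : ∀ e, InV eW eV e → e ≠ 1 → ¬ IsConj eA e := by
    rintro e (rfl | rfl | rfl | rfl) h1
    · exact absurd rfl h1
    · exact hn1
    · exact hn2
    · exact hn3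
  have hA1 : eA ≠ 1 := fun h => by
    obtain ⟨c, hc⟩ := isConj_iff.1 conj_a_u
    rw [h] at hc
    have hU : eU = 1 := by rw [← hc]; group
    have hall : classSet ⊆ {1} := by
      rintro _ ⟨r, hr, rfl⟩
      rw [Set.mem_singleton_iff, ← (class_rows.1 r hr).2, hU]
      group
    have := Set.ncard_le_ncard hall (Set.finite_singleton 1)
    rw [class_rows.2.1, Set.ncard_singleton] at this
    omega
  have hone : ∀ y, IsConj eA y → y ≠ 1 := fun y hy e => hA1 (isConj_one_left.1 (e ▸ hy))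
  have hclass : ∀ u ∈ classSet, IsConj eA u ∧ u ∈ cent4 ∧ ∃ c ∈ cent4, c * eU * c⁻¹ = u := by
    rintro _ ⟨r, hr, rfl⟩
    obtain ⟨hc, he⟩ := class_rows.1 r hr
    exact ⟨conj_a_u.trans (isConj_iff.2 ⟨_, he⟩), he ▸ mul_mem (mul_mem hc eU_mem) (inv_mem hc), _, hc, he⟩
  have hnf : ∀ x, InH eW eV x → IsConj eA x → ∃ c ∈ cent4, c * x * c⁻¹ ∈ classSet := by
    intro x hx hax
    have hxx : x * x = 1 := by
      obtain ⟨k, rfl⟩ := isConj_iff.1 hax
      rw [conj_mul, ha]; group
    obtain ⟨c, hc, h | ⟨u, hu, e, he, heq, hconj⟩⟩ := normal_form hx (Or.inl hxx) hV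
    · have hac : IsConj eA (c * x * c⁻¹) := hax.trans (isConj_iff.2 ⟨c, rfl⟩)
      exact absurd hac (hnotV _ h (hone _ hac))
    · refine ⟨c, hc, ?_⟩
      rcases Nat.eq_zero_or_pos e with rfl | hpos
      · rw [heq, (four4_spec he).2 rfl, mul_one]; exact hu
      · refine absurd ((hax.trans (isConj_iff.2 ⟨c, heq⟩)).trans (hconj (by omega)).symm) hn1
  refine ⟨ha, hw, hw1, hv, hv1, hvw, hwv, hn1, ⟨el nS, hs, hsv⟩, counts.2.2.2, ?_, ?_, ?_, ?_, ?_, ?_, ?_⟩
  · rw [← counts.2.2.1]
    congr 1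
    ext x
    constructor
    · rintro ⟨hx, hax⟩
      obtain ⟨c, hc, hmem⟩ := hnf x hx hax
      obtain ⟨-, -, d, hd, he⟩ := hclass _ hmem
      refine ⟨c⁻¹ * d, mul_mem (inv_mem hc) hd, ?_⟩
      rw [show c⁻¹ * d * eU * (c⁻¹ * d)⁻¹ = c⁻¹ * (d * eU * d⁻¹) * c by group, he]
      group
    · rintro ⟨q, hq, rfl⟩
      exact ⟨mem_cent4.1 (mul_mem (mul_mem hq eU_mem) (inv_mem hq)), conj_a_u.trans (isConj_iff.2 ⟨q, rfl⟩)⟩
  · rw [← counts.1, show Nat.card cent4 = (cent4 : Set ↥suzGroup).ncard from Nat.card_coe_set_eq _]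
    congr 1
    ext x
    exact mem_cent4.symm
  · intro x hx hxx hxV
    obtain ⟨c, hc, h | ⟨u, hu, e, he, heq, -⟩⟩ := normal_form hx (Or.inl hxx) hV
    · refine absurd ?_ hxV
      have hcx : x = c⁻¹ * (c * x * c⁻¹) * c := by group
      rcases h with h | h | h | h <;> rw [h] at hcx
      · exact Or.inl (by rw [hcx]; group)
      · exact Or.inr (Or.inl (by rw [hcx, mul_assoc, ← (mem_cent4.1 hc).1]; group))
      · exact Or.inr (Or.inr (Or.inl (by rw [hcx, mul_assoc, ← (mem_cent4.1 hc).2]; group)))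
      · refine Or.inr (Or.inr (Or.inr ?_))
        rw [hcx, mul_assoc, ← ((show Commute c eW from (mem_cent4.1 hc).1).mul_right
          (show Commute c eV from (mem_cent4.1 hc).2)).eq]
        group
    · refine ⟨four4 e, (four4_spec he).1, (hclass u hu).1.trans (isConj_iff.2 ⟨c⁻¹, ?_⟩)⟩
      have hce : c * four4 e = four4 e * c := by
        rcases (four4_spec he).1 with h | h | h | h <;> rw [h]
        · simp
        · exact (mem_cent4.1 hc).1
        · exact (mem_cent4.1 hc).2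
        · exact ((show Commute c eW from (mem_cent4.1 hc).1).mul_right (show Commute c eV from (mem_cent4.1 hc).2)).eq
      have hu' : u = c * x * c⁻¹ * four4 e := by
        rw [heq, mul_assoc, hV _ (four4_spec he).1, mul_one]
      rw [hu', inv_inv]
      calc c⁻¹ * (c * x * c⁻¹ * four4 e) * c = x * c⁻¹ * (four4 e * c) := by group
        _ = x * four4 e := by rw [← hce]; group
  · intro x hx hax e he hae
    by_contra hne
    obtain ⟨c, hc, hmem⟩ := hnf x hx hax
    obtain ⟨e', he', rfl⟩ := inV_four4 he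
    have hxx : x * x = 1 := by
      obtain ⟨k, rfl⟩ := isConj_iff.1 hax
      rw [conj_mul, ha]; group
    have hce : c * four4 e' * c⁻¹ = four4 e' := mul_inv_eq_iff_eq_mul.2 (by
      rcases he with h | h | h | h <;> rw [h]
      · simp
      · exact (mem_cent4.1 hc).1
      · exact (mem_cent4.1 hc).2
      · exact ((show Commute c eW from (mem_cent4.1 hc).1).mul_right (show Commute c eV from (mem_cent4.1 hc).2)).eq)
    have hx' : InH eW eV (x * four4 e') := by
      obtain ⟨hx1, hx2⟩ := hx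
      have hcomm : ∀ g, x * g = g * x → four4 e' * g = g * four4 e' → x * four4 e' * g = g * (x * four4 e') :=
        fun g h1 h2 => ((show Commute x g from h1).mul_left (show Commute _ g from h2)).eq
      refine ⟨hcomm _ hx1 ?_, hcomm _ hx2 ?_⟩ <;>
      · rcases he with h | h | h | h <;> rw [h]
        all_goals first
          | simp
          | exact hwv
          | exact hwv.symm
          | exact ((show Commute eW eW from rfl).mul_left (show Commute eV eW from hwv.symm)).eq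
          | exact ((show Commute eW eV from hwv).mul_left (show Commute eV eV from rfl)).eq
    obtain ⟨d, hd, hmem'⟩ := hnf (x * four4 e') hx' hae
    -- move to a member of the list
    obtain ⟨hax', hxm, k, hk, hku⟩ := hclass _ hmem
    set q := k⁻¹ * c
    have hq : q ∈ cent4 := mul_mem (inv_mem hk) hc
    have hqx : q * x * q⁻¹ = eU := by
      show k⁻¹ * c * x * (k⁻¹ * c)⁻¹ = eU
      calc k⁻¹ * c * x * (k⁻¹ * c)⁻¹ = k⁻¹ * (c * x * c⁻¹) * k := by group
        _ = eU := by rw [← hku]; group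
    have hqe : q * four4 e' * q⁻¹ = four4 e' := mul_inv_eq_iff_eq_mul.2 (by
      rcases he with h | h | h | h <;> rw [h]
      · simp
      · exact (mem_cent4.1 hq).1
      · exact (mem_cent4.1 hq).2
      · exact ((show Commute q eW from (mem_cent4.1 hq).1).mul_right (show Commute q eV from (mem_cent4.1 hq).2)).eq)
    have hue : IsConj eA (eU * four4 e') := by
      refine hae.trans (isConj_iff.2 ⟨q, ?_⟩)
      rw [← conj_mul, hqx, hqe]
    have hueH : InH eW eV (eU * four4 e') := by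
      have h := mul_mem (mul_mem hq (mem_cent4.2 hx')) (inv_mem hq)
      rw [← conj_mul, hqx, hqe] at h
      exact mem_cent4.1 h
    -- it is a listed element
    obtain ⟨g, hg, hgmem⟩ := hnf _ hueH hue
    obtain ⟨-, -, l, hl, hle⟩ := hclass _ hgmem
    have hmem2 : eU * four4 e' ∈ {y | ∃ q ∈ cent4, q * eU * q⁻¹ = y} := by
      refine ⟨g⁻¹ * l, mul_mem (inv_mem hg) hl, ?_⟩
      calc g⁻¹ * l * eU * (g⁻¹ * l)⁻¹ = g⁻¹ * (l * eU * l⁻¹) * g := by group
        _ = eU * four4 e' := by rw [hle]; group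
    rw [orbit_eq] at hmem2
    have he0 : e' ≠ 0 := fun h => hne ((four4_spec he').2 h)
    exact translate_not_listed hmem2 he' he0
  · intro x hx hsq
    obtain ⟨c, hc, h | ⟨u, hu, e, he, heq, -⟩⟩ := normal_form hx hsq hV
    · have h2 := hV _ h
      calc x * x = c⁻¹ * ((c * x * c⁻¹) * (c * x * c⁻¹)) * c := by group
        _ = 1 := by rw [h2]; group
    · have h2 : c * x * c⁻¹ * (c * x * c⁻¹) = 1 := by
        rw [heq]
        obtain ⟨hau, hum, -⟩ := hclass u hu
        obtain ⟨k, hk⟩ := isConj_iff.1 hau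
        have huu : u * u = 1 := by rw [← hk, conj_mul, ha]; group
        have hue : four4 e * u = u * four4 e := by
          rcases (four4_spec he).1 with h | h | h | h <;> rw [h]
          · simp
          · exact (mem_cent4.1 hum).1.symm
          · exact (mem_cent4.1 hum).2.symm
          · exact (((show Commute u eW from (mem_cent4.1 hum).1).mul_right
              (show Commute u eV from (mem_cent4.1 hum).2)).eq).symm
        calc u * four4 e * (u * four4 e) = u * (four4 e * u) * four4 e := by group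
          _ = u * (u * four4 e) * four4 e := by rw [hue]
          _ = (u * u) * (four4 e * four4 e) := by group
          _ = 1 := by rw [huu, hV _ (four4_spec he).1, mul_one]
      calc x * x = c⁻¹ * ((c * x * c⁻¹) * (c * x * c⁻¹)) * c := by group
        _ = 1 := by rw [h2]; group
  · intro x y hx hy
    exact no_commuting (mem_cent4.2 hx) (mem_cent4.2 hy)
  · obtain ⟨-, -, hp, hc, hlen, h1, h2, h3⟩ := class_rows
    have mem : ∀ {j}, j < 315 → el (orb315.getD j (0, 0)).1 ∈ classSet := fun {j} hj => ⟨_, by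
      rw [List.getD_eq_getElem _ _ (by rw [hlen]; exact hj)]; exact List.getElem_mem _, rfl⟩
    refine ⟨_, _, mem_cent4.1 (hclass _ (mem h1)).2.1, mem_cent4.1 (hclass _ (mem h2)).2.1, (hclass _ (mem h1)).1,
      (hclass _ (mem h2)).1, hc, ?_⟩
    rw [hp]
    exact (hclass _ (mem h3)).1

end Cfsg.Agent.SuzRecog
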