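import Cfsg.Agent.Lib.SuzT.Classes
import Cfsg.Agent.Lib.SuzT.Wrap
import Cfsg.Agent.Lib.Components.Fitting

/-!
Pulling the setting of Suzuki type back along an embedding which covers the centraliser.
-/

set_option autoImplicit false
set_option linter.unusedSectionVars false
set_option linter.style.haveILetI false

namespace Cfsg.Agent.SuzRecog

open Subgroup LargeExtra SuzT

variable {G : Type*} [Group G] [Finite G] {S : Type*} [Group S] [Finite S]

theorem su_comap {z : G} {Q : Subgroup G} {π : G → SuzT.V} {ρ : G → SuzT.V → SuzT.V} (h : Su z Q π ρ)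
    (φ : S →* G) (hφ : Function.Injective φ) {a : S} (ha : φ a = z)
    (hC : ∀ x, x * z = z * x → x ∈ φ.range) :
    Su a (Q.comap φ) (fun s => π (φ s)) (fun s => ρ (φ s)) := by
  subst ha
  have hQr : Q ≤ φ.range := fun q hq => hC q (h.loc.comm hq)
  have hmap : (Q.comap φ).map φ = Q := map_comap_eq_self hQr
  have hxs : IsExtraspecial 2 ↥(Q.comap φ) :=
    Qd.isExtraspecial_congr ((equivMapOfInjective (Q.comap φ) φ hφ).trans (MulEquiv.subgroupCongr hmap)) h.loc.xs
  have hz : orderOf a = 2 := (orderOf_injective φ hφ a).symm.trans h.loc.orderOf_eq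
  have hcomm : ∀ {s : S}, s * a = a * s → φ s * φ a = φ a * φ s := fun hs => by
    rw [← map_mul, ← map_mul, hs]
  have loc : XSLocal (Q.comap φ) a := by
    refine XSLocal.of_core hz hxs h.loc.mem (fun s hs => mem_centralizer_one.2 (hφ ?_)) (fun s hs => ?_) ?_
    · rw [map_mul, map_mul]; exact h.loc.comm hs
    · rw [mem_centralizer_iff] at hs
      have hc : φ s ∈ centralizer (Q : Set G) := mem_centralizer_iff.2 fun q hq => by
        obtain ⟨q', rfl⟩ := hQr hq
        rw [← map_mul, ← map_mul, hs q' hq]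
      rcases h.loc.mem_zpowers_iff.1 (h.loc.cent hc) with e | e
      · rw [show s = 1 from hφ (e.trans (map_one φ).symm)]; exact one_mem _
      · rw [show s = a from hφ e]; exact h.loc.mem
    · intro s hs
      have h1 := h.loc.norm (mem_centralizer_one.2 (hcomm (mem_centralizer_one.1 hs)))
      refine mem_normalizer_iff.2 fun q => ?_
      show φ q ∈ Q ↔ φ (s * q * s⁻¹) ∈ Q
      rw [map_mul, map_mul, map_inv]
      exact mem_normalizer_iff.1 h1 (φ q)
  refine ⟨loc, ?_, fun x hx y hy => ?_, fun x hx => ?_, fun v => ?_, fun x hx => hφ ?_, fun k hk x hx => ?_,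
    fun k hk => h.ker _ (hcomm hk), fun k hk => h.om _ (hcomm hk), fun f hf => ?_⟩
  · rw [← card_map_of_injective hφ, hmap, h.card]
  · show π (φ (x * y)) = _
    rw [map_mul]; exact h.pi_mul _ hx _ hy
  · rw [h.pi_eq _ hx]
    exact or_congr ⟨fun e => hφ (e.trans (map_one φ).symm), fun e => e ▸ map_one φ⟩ ⟨fun e => hφ e, fun e => e ▸ rfl⟩
  · obtain ⟨q, hq, rfl⟩ := h.pi_surj v
    obtain ⟨q', rfl⟩ := hQr hq
    exact ⟨q', hq, rfl⟩
  · rw [map_mul, h.sq _ hx]
    rcases F_cases (q (π (φ x))) with e | e <;> rw [e] <;> simp [zb_zero, zb_one]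
  · show π (φ (k * x * k⁻¹)) = ρ (φ k) (π (φ x))
    rw [map_mul, map_mul, map_inv]; exact h.conj _ (hcomm hk) _ hx
  · obtain ⟨k, hk, rfl⟩ := h.lift f hf
    obtain ⟨k', rfl⟩ := hC k hk
    exact ⟨k', hφ (by rw [map_mul, map_mul]; exact hk), rfl⟩

/-- An element of the centraliser of `z` whose conjugates there commute modulo `⟨z⟩` lies in the generalised
Fitting subgroup. -/
theorem mem_fstar {C : Type*} [Group C] [Finite C] {z x : C} (hz : z ∈ center C) (hzz : z * z = 1)
    (h : ∀ c : C, x * (c * x * c⁻¹) * x⁻¹ * (c * x * c⁻¹)⁻¹ = 1 ∨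
      x * (c * x * c⁻¹) * x⁻¹ * (c * x * c⁻¹)⁻¹ = z) :
    x ∈ Cfsg.generalizedFittingSubgroup C := by
  have := hzz
  haveI hn : (zpowers z).Normal := ⟨fun y hy c => by
    rwa [mem_center_iff.1 (zpowers_le.2 hz hy) c, mul_inv_cancel_right]⟩
  set N := normalClosure ({x} : Set C) with hN
  have hcl : N = closure (Set.range fun c : C => c * x * c⁻¹) := by
    rw [hN]
    refine congrArg Subgroup.closure ?_
    ext y
    simp [Group.conjugatesOfSet, conjugatesOf, isConj_iff]
  let π := QuotientGroup.mk' (zpowers z)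
  have hgen : ∀ c d : C, Commute (π (c * x * c⁻¹)) (π (d * x * d⁻¹)) := by
    intro c d
    have h' : c * (x * (c⁻¹ * d * x * (c⁻¹ * d)⁻¹) * x⁻¹ * (c⁻¹ * d * x * (c⁻¹ * d)⁻¹)⁻¹) * c⁻¹ ∈ zpowers z := by
      refine hn.conj_mem _ ?_ c
      rcases h (c⁻¹ * d) with e | e <;> rw [e]
      · exact one_mem _
      · exact mem_zpowers z
    have e : (c * x * c⁻¹) * (d * x * d⁻¹) * (c * x * c⁻¹)⁻¹ * (d * x * d⁻¹)⁻¹ ∈ zpowers z := by
      convert h' using 1; group
    have e2 : π ((c * x * c⁻¹) * (d * x * d⁻¹) * (c * x * c⁻¹)⁻¹ * (d * x * d⁻¹)⁻¹) = 1 :=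
      (QuotientGroup.eq_one_iff _).2 e
    rw [map_mul, map_mul, map_mul, map_inv, map_inv, mul_inv_eq_one, mul_inv_eq_iff_eq_mul] at e2
    exact e2
  have hab : ∀ p q : N, π (p : C) * π q = π q * π p := by
    intro p q
    have hle : N.map π ≤ closure (Set.range fun c : C => π (c * x * c⁻¹)) := by
      rw [hcl, MonoidHom.map_closure, ← Set.range_comp]; exact le_of_eq rfl
    have h2 : closure (Set.range fun c : C => π (c * x * c⁻¹)) ≤
        centralizer (closure (Set.range fun c : C => π (c * x * c⁻¹)) : Set (C ⧸ zpowers z)) := by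
      rw [centralizer_closure, closure_le]
      rintro _ ⟨c, rfl⟩
      rw [SetLike.mem_coe, mem_centralizer_iff]
      rintro _ ⟨d, rfl⟩
      exact (hgen d c).eq
    exact (mem_centralizer_iff.1 (h2 (hle ⟨p, p.2, rfl⟩)) _ (hle ⟨q, q.2, rfl⟩)).symm
  haveI : Group.IsNilpotent N := by
    let g : N →* N.map π := π.subgroupMap N
    letI : CommGroup (N.map π) := { (inferInstance : Group (N.map π)) with
      mul_comm := fun p q => Subtype.ext (by
        obtain ⟨p', hp, e⟩ := p.2
        obtain ⟨q', hq, e'⟩ := q.2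
        show (p : C ⧸ zpowers z) * q = q * p
        rw [← e, ← e']
        exact hab ⟨p', hp⟩ ⟨q', hq⟩) }
    refine @Subgroup.isNilpotent_of_ker_le_center N _ (N.map π) _ g (fun p hp => ?_) inferInstance
    have h1 : π (p : C) = 1 := congrArg Subtype.val (MonoidHom.mem_ker.1 hp)
    have h2 : (p : C) ∈ center C := zpowers_le.2 hz ((QuotientGroup.eq_one_iff _).1 h1)
    exact mem_center_iff.2 fun q => Subtype.ext (mem_center_iff.1 h2 q)
  exact le_sup_right (a := Cfsg.layer C) (Components.le_fittingSubgroup (normalClosure_normal) inferInstance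
    (subset_normalClosure (Set.mem_singleton x)))

end Cfsg.Agent.SuzRecog
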