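import Cfsg.Agent.Lib.SuzRecog.Whole
import Cfsg.Agent.Lib.SuzRecog.FourFacts
import Cfsg.Agent.Lib.SuzRecog.ExtraA
import Cfsg.Agent.Lib.SuzRecog.Pull
import Cfsg.Prelude.Def_Spor_Suz

/-!
Recognition of the Suzuki group: under the large extraspecial hypothesis, a homomorphism from the
presented group carrying the first generator to the involution is bijective.
-/

set_option autoImplicit false
set_option linter.unusedSectionVars false
set_option linter.style.haveILetI false
set_option maxRecDepth 100000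

namespace Cfsg.Agent.SuzRecog

open Subgroup
open Cfsg.Agent.RigidGraph.Suz (suzGroup presentedEquiv isSuz_suzGroup)

attribute [local irreducible] suzGroup eA eW eV eX

/-- The homomorphism is bijective. -/
theorem suz_bijective {G : Type*} [Group G] [Finite G] (z : G) (hz : orderOf z = 2)
    (Q : Subgroup (Subgroup.centralizer ({z} : Set G))) [Q.Normal]
    (hF : Cfsg.generalizedFittingSubgroup (Subgroup.centralizer ({z} : Set G)) = Q)
    (hQ : Cfsg.IsExtraspecial 2 Q) (hcard : Nat.card Q = 2 ^ 7)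
    (e : (Subgroup.centralizer ({z} : Set G)) ⧸ Q ≃* Cfsg.Omega (ZMod 2) (Cfsg.quadFormMinus 2 (ZMod 2) 1 1))
    (f : Cfsg.Spor.Suz →* G) (hfa : f (PresentedGroup.of Cfsg.Spor.Suz.Gen.a) = z) : Function.Bijective f := by
  classical
  obtain ⟨π, ρ, U⟩ := SuzT.exists_su hz Q hF hQ hcard e
  haveI : IsSimpleGroup ↥suzGroup := isSuz_suzGroup.1
  haveI : Finite ↥suzGroup := Nat.finite_of_card_ne_zero (by rw [isSuz_suzGroup.2]; norm_num)
  set φ : ↥suzGroup →* G := f.comp presentedEquiv.symm.toMonoidHom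
  have hφa : φ eA = z := by
    rw [← presentedEquiv_a]
    show f (presentedEquiv.symm (presentedEquiv _)) = z
    rw [MulEquiv.symm_apply_apply, hfa]
  have hz1 : z ≠ 1 := fun h => by rw [h, orderOf_one] at hz; omega
  have hinj : Function.Injective φ := by
    rcases IsSimpleGroup.eq_bot_or_eq_top_of_normal φ.ker inferInstance with h | h
    · exact (MonoidHom.ker_eq_bot_iff φ).1 h
    · exact absurd (hφa.symm.trans (MonoidHom.mem_ker.1 (h ▸ mem_top eA))) hz1
  -- the centraliser of `z`
  have hCG : Nat.card ↥(centralizer ({z} : Set G)) = 3317760 := by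
    rw [Subgroup.card_eq_card_quotient_mul_card_subgroup Q, hcard, Nat.card_congr e.toEquiv]
    show Nat.card SuzT.Om * _ = _
    rw [SuzT.card_Om]; norm_num
  have himg : centA.map φ = centralizer ({z} : Set G) := by
    refine eq_of_le_of_card_ge ?_ ?_
    · rintro _ ⟨c, hc, rfl⟩
      rw [mem_centralizer_singleton_iff, ← hφa, ← map_mul, ← map_mul,
        mem_centralizer_singleton_iff.1 (centA_le hc)]
    · rw [hCG, card_map_of_injective hinj]; exact le_card_centA
  have hC : ∀ x, x * z = z * x → x ∈ φ.range := fun x hx =>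
    map_le_range φ centA (himg.ge (mem_centralizer_singleton_iff.2 hx))
  obtain ⟨hxconj, hxne, hxcomm, hxx⟩ := eX_spec
  -- a conjugate inside the extraspecial subgroup
  have hxQ : φ eX ∈ Q.map (centralizer ({z} : Set G)).subtype := by
    have hmem : φ eX ∈ centralizer ({z} : Set G) :=
      mem_centralizer_singleton_iff.2 (by rw [← hφa, ← map_mul, ← map_mul, hxcomm])
    refine ⟨⟨φ eX, hmem⟩, ?_, rfl⟩
    rw [← hF]
    refine mem_fstar (z := ⟨z, mem_centralizer_singleton_iff.2 rfl⟩)
      (mem_center_iff.2 fun c => Subtype.ext (mem_centralizer_singleton_iff.1 c.2))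
      (Subtype.ext (by show z * z = 1; rw [← pow_two, ← hz, pow_orderOf_eq_one])) fun c => ?_
    obtain ⟨c', hc', hcc⟩ := himg.ge c.2
    rcases hxx c' hc' with h | h
    · left
      have h' := congrArg φ h
      simp only [map_mul, map_inv, map_one, hcc] at h'
      exact Subtype.ext h'
    · right
      have h' := congrArg φ h
      simp only [map_mul, map_inv, hcc, hφa] at h'
      exact Subtype.ext h'
  obtain ⟨m, hm⟩ := isConj_iff.1 hxconj
  have hgz : φ m * z * (φ m)⁻¹ = φ eX := by rw [← hφa, ← hm, map_mul, map_mul, map_inv]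
  -- two classes in the copy
  have U' := su_comap U φ hinj hφa hC
  obtain ⟨s, g, X⟩ := SuzT.exists_frame U' ⟨m, by rw [hm]; exact hxQ, by rw [hm]; exact hxne⟩
  obtain ⟨b₁, b₂, -, -, -, hall⟩ := X.two_classes
  have F := facts
  have hcls : ∀ x : ↥suzGroup, x * x = 1 → x ≠ 1 → IsConj eA x ∨ IsConj eW x := by
    have hord : ∀ y : ↥suzGroup, y * y = 1 → y ≠ 1 → orderOf y = 2 := fun y h h' =>
      orderOf_eq_prime (by rw [pow_two, h]) h'
    have hA : eA ≠ 1 := fun h => hz1 (by rw [← hφa, h, map_one])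
    intro x hx hx1
    have ha := hall eA (hord _ F.a2 hA)
    have hw := hall eW (hord _ F.w2 F.w1)
    have hxc := hall x (hord _ hx hx1)
    rcases ha with ha | ha <;> rcases hw with hw | hw <;> rcases hxc with hxc | hxc
    all_goals first
      | exact absurd (ha.trans hw.symm) F.nconj
      | exact Or.inl (ha.trans hxc.symm)
      | exact Or.inr (hw.trans hxc.symm)
  -- the other class of the whole group meets the centraliser
  have hoth : ∃ t, t * t = 1 ∧ t ≠ 1 ∧ t * z = z * t ∧ ¬ IsConj z t := by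
    obtain ⟨s', g', Y⟩ := SuzT.exists_frame U ⟨φ m, hgz ▸ hxQ, hgz ▸ fun h => hxne (hinj (h.trans hφa.symm))⟩
    obtain ⟨p, q, hp, hq, hpq, -⟩ := Y.two_classes
    obtain ⟨b, hb, hzb⟩ : ∃ b, orderOf b = 2 ∧ ¬ IsConj z b := by
      by_cases h : IsConj z p
      · exact ⟨q, hq, fun h' => hpq (h.symm.trans h')⟩
      · exact ⟨p, hp, h⟩
    have hb2 : b * b = 1 := by rw [← pow_two, ← hb, pow_orderOf_eq_one]
    obtain ⟨k, hk⟩ := U.center_sylow b hb2
    refine ⟨k * b * k⁻¹, by rw [conj_mul, hb2]; group, fun h => ?_, hk,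
      fun h => hzb (h.trans (isConj_iff.2 ⟨k⁻¹, by group⟩))⟩
    rw [conj_eq_one_iff] at h
    rw [h, orderOf_one] at hb
    omega
  have E : Emb z φ eA eW eV := ⟨F, hinj, hφa, hC, hcls, hoth⟩
  have hb : Function.Bijective φ := ⟨hinj, E.surjective⟩
  have : (f : Cfsg.Spor.Suz → G) = φ ∘ presentedEquiv := by
    funext x
    show f x = f (presentedEquiv.symm (presentedEquiv x))
    rw [MulEquiv.symm_apply_apply]
  rw [this]
  exact hb.comp presentedEquiv.bijective

/-- Recognition of the Suzuki group from a homomorphism of the presented group. -/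
theorem suz_recognise {G : Type*} [Group G] [Finite G] (z : G) (hz : orderOf z = 2)
    (Q : Subgroup (Subgroup.centralizer ({z} : Set G))) [Q.Normal]
    (hF : Cfsg.generalizedFittingSubgroup (Subgroup.centralizer ({z} : Set G)) = Q)
    (hQ : Cfsg.IsExtraspecial 2 Q) (hcard : Nat.card Q = 2 ^ 7)
    (e : (Subgroup.centralizer ({z} : Set G)) ⧸ Q ≃* Cfsg.Omega (ZMod 2) (Cfsg.quadFormMinus 2 (ZMod 2) 1 1))
    (f : Cfsg.Spor.Suz →* G) (hfa : f (PresentedGroup.of Cfsg.Spor.Suz.Gen.a) = z) : Cfsg.Spor.IsoSuz G :=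
  ⟨(MulEquiv.ofBijective f (suz_bijective z hz Q hF hQ hcard e f hfa)).symm⟩

end Cfsg.Agent.SuzRecog
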