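import Cfsg.Agent.Lib.RigidGraph.Suz.Cert
import Cfsg.Agent.Lib.SuzOut.Words

/-!
Checkers for centralisers of involutions inside the group on 1782 points, and their meaning for the
stabiliser chains. The definitions are meant for `decide +kernel`.
-/

set_option autoImplicit false
set_option maxRecDepth 100000

namespace Cfsg.Agent.SuzRecog

open Cfsg.Agent.RigidGraph (slot bit ins cntB cntB_eq_fin eqB eqB_iff autG fixList mem_fixList Adj smul_adj permOf
  bit_ins bit_zero card_split fixList_append_le)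
open Cfsg.Agent.RigidGraph.Suz (suzGroup graph graph_ok)
open Cfsg.Agent.SuzOut (evW okWord okWord_mem wordVal act_word grp_aut keyOf keyP_inj)

attribute [local irreducible] graph SuzOut.lets SuzOut.wordVal RigidGraph.permOf RigidGraph.Suz.nodes

/-- A word packed in hexadecimal digits, each one more than the letter. -/
def unpack : ℕ → ℕ → List ℕ
  | 0, _ => []
  | f + 1, m => bif Nat.beq m 0 then [] else (Nat.land m 15 - 1) :: unpack f (Nat.shiftRight m 4)

/-- A packed word. -/
def dW (m : ℕ) : List ℕ := unpack 16 m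

/-- `y` looks like `t` from the points of `bs` and the involution `w`. -/
noncomputable def sigW (w bs : List ℕ) (t y : ℕ) : Bool :=
  bs.all (fun b => !Nat.beq y b && eqB (bit (graph.B.get b) y) (bit (graph.B.get b) t) &&
    eqB (bit (graph.B.get y) b) (bit (graph.B.get t) b)) &&
    eqB (Nat.beq (evW w y) y) (Nat.beq (evW w t) t) &&
    eqB (bit (graph.B.get y) (evW w y)) (bit (graph.B.get t) (evW w t))

/-- The number of such points. -/
noncomputable def classW (w bs : List ℕ) (t : ℕ) : ℕ := cntB (sigW w bs t) 1782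

/-- A chain bounding a centraliser from above. -/
noncomputable def upperOK (w : List ℕ) : List ℕ → List (ℕ × ℕ) → Bool
  | bs, [] => SuzOut.base.all fun b => bs.contains b
  | bs, (t, k) :: Ls => Nat.blt t 1782 && !bs.contains t && Nat.beq (classW w bs t) k &&
      upperOK w (bs ++ [t, evW w t]) Ls

/-- Grow an orbit of a list of words. -/
def growW (ws : List (List ℕ)) : List (ℕ × ℕ) → ℕ → ℕ → Option (ℕ × ℕ)
  | [], m, c => some (m, c)
  | (u, g) :: l, m, c =>
    bif bit m u && Nat.blt g ws.length && !bit m (evW (ws.getD g []) u) then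
      growW ws l (ins m (evW (ws.getD g []) u)) (c + 1)
    else none

/-- The orbit of `t` has at least `k` points. -/
def orbitW (ws : List (List ℕ)) (t : ℕ) (tree : List (ℕ × ℕ)) (k : ℕ) : Bool :=
  match growW ws tree (ins 0 t) 1 with
  | some (_, c) => Nat.beq c k
  | none => false

/-- A step of a chain bounding a subgroup from below. -/
structure Step where
  t : ℕ
  k : ℕ
  gens : List ℕ
  tree : List (ℕ × ℕ)

/-- A chain bounding a subgroup from below. -/
def lowerOK : List ℕ → List Step → Bool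
  | _, [] => true
  | bs, L :: Ls => Nat.blt L.t 1782 &&
      L.gens.all (fun g => okWord (dW g) && bs.all fun b => Nat.beq (evW (dW g) b) b) &&
      orbitW (L.gens.map dW) L.t L.tree L.k && lowerOK (bs ++ [L.t]) Ls

section upper

variable {w : List ℕ}

theorem sigW_smul (hw : okWord w = true) {bs : List ℕ} (hlt : ∀ b ∈ bs, b < 1782) {c : Equiv.Perm (Fin 1782)}
    (hc : c ∈ autG 1782 graph) (hcw : c * (wordVal w : Equiv.Perm (Fin 1782)) = wordVal w * c)
    (hf : c ∈ fixList 1782 bs) {t : ℕ} (ht : t < 1782) (hne : t ∉ bs) :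
    sigW w bs t (c ⟨t, ht⟩) = true := by
  have hw8 := okWord_mem hw
  set W : Equiv.Perm (Fin 1782) := (wordVal w : Equiv.Perm (Fin 1782))
  have hW : ∀ x : Fin 1782, evW w x = (W x : ℕ) := fun x => (act_word w hw8 x).symm
  have hcW : ∀ x, c (W x) = W (c x) := fun x => congrArg (fun g : Equiv.Perm (Fin 1782) => g x) hcw
  have ht' : evW w t = (W ⟨t, ht⟩ : ℕ) := hW ⟨t, ht⟩
  simp only [sigW, Bool.and_eq_true, List.all_eq_true, Bool.not_eq_true', eqB_iff]
  refine ⟨⟨fun b hb => ?_, ?_⟩, ?_⟩
  · obtain ⟨h1, h2⟩ := smul_adj hc hf hb (hlt b hb) ⟨t, ht⟩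
    refine ⟨⟨?_, h1⟩, h2⟩
    by_contra h
    rw [Bool.not_eq_false, Nat.beq_eq] at h
    have e : c ⟨t, ht⟩ = ⟨b, hlt b hb⟩ := Fin.ext h
    rw [← hf ⟨b, hlt b hb⟩ hb] at e
    exact hne (by rw [show t = b from congrArg Fin.val (c.injective e)]; exact hb)
  · rw [hW, ← hcW, ht', Bool.eq_iff_iff, Nat.beq_eq, Nat.beq_eq]
    constructor
    · intro h
      exact congrArg Fin.val (c.injective (Fin.ext h))
    · intro h
      rw [show W ⟨t, ht⟩ = ⟨t, ht⟩ from Fin.ext h]
  · rw [hW, ← hcW, ht']
    exact Bool.eq_iff_iff.2 (hc ⟨t, ht⟩ (W ⟨t, ht⟩))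

/-- The elements of the automorphism group commuting with a word. -/
noncomputable def autCent (w : List ℕ) : Subgroup (Equiv.Perm (Fin 1782)) :=
  autG 1782 graph ⊓ Subgroup.centralizer {(wordVal w : Equiv.Perm (Fin 1782))}

theorem upper_spec (hw : okWord w = true) : ∀ (Ls : List (ℕ × ℕ)) (bs : List ℕ),
    upperOK w bs Ls = true → (∀ b ∈ bs, b < 1782) →
      Nat.card ↥(autCent w ⊓ fixList 1782 bs) ≤ (Ls.map Prod.snd).prod := by
  intro Ls
  induction Ls with
  | nil =>
    intro bs h _
    simp only [upperOK, List.all_eq_true, List.contains_iff_mem] at h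
    have hle : autCent w ⊓ fixList 1782 bs ≤ ⊥ := by
      rw [← SuzOut.aut_fix_bot]
      exact le_inf (inf_le_left.trans inf_le_left) fun c hc i hi => hc.2 i (h _ hi)
    simp [le_bot_iff.1 hle]
  | cons L Ls ih =>
    obtain ⟨t, k⟩ := L
    intro bs h hlt
    simp only [upperOK, Bool.and_eq_true, Nat.blt_eq, Nat.beq_eq, Bool.not_eq_true'] at h
    obtain ⟨⟨⟨ht, hne⟩, hk⟩, hrest⟩ := h
    have hne' : t ∉ bs := fun hm => by
      rw [List.contains_iff_mem.2 hm] at hne
      exact Bool.noConfusion hne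
    have hw8 := okWord_mem hw
    set W : Equiv.Perm (Fin 1782) := (wordVal w : Equiv.Perm (Fin 1782))
    have hWt : evW w t = (W ⟨t, ht⟩ : ℕ) := (act_word w hw8 ⟨t, ht⟩).symm
    have hlt' : ∀ b ∈ bs ++ [t, evW w t], b < 1782 := by
      intro b hb
      simp only [List.mem_append, List.mem_cons, List.not_mem_nil, or_false] at hb
      rcases hb with hb | rfl | rfl
      · exact hlt b hb
      · exact ht
      · rw [hWt]; exact (W ⟨t, ht⟩).2
    have hi := ih _ hrest hlt'
    rw [card_split (autCent w) bs ⟨t, ht⟩, List.map_cons, List.prod_cons]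
    refine Nat.mul_le_mul ?_ ((Subgroup.card_le_of_le ?_).trans hi)
    · rw [← hk, classW, cntB_eq_fin, ← Set.ncard_coe_finset]
      refine Set.ncard_le_ncard ?_
      rintro _ ⟨⟨c, ⟨hc, hcw⟩, hf⟩, rfl⟩
      rw [Finset.mem_coe, Finset.mem_filter]
      exact ⟨Finset.mem_univ _, sigW_smul hw hlt hc (Subgroup.mem_centralizer_singleton_iff.1 hcw) hf ht hne'⟩
    · rintro c ⟨⟨hc, hcw⟩, hf⟩
      refine ⟨⟨hc, hcw⟩, mem_fixList.2 fun i hi => ?_⟩
      simp only [List.mem_append, List.mem_cons, List.not_mem_nil, or_false] at hi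
      rcases hi with hi | hi | hi
      · exact hf i (List.mem_append_left _ hi)
      · exact hf i (by simp [hi])
      · have e : i = W ⟨t, ht⟩ := Fin.ext (hi.trans hWt)
        have h1 := congrArg (fun g : Equiv.Perm (Fin 1782) => g ⟨t, ht⟩) (Subgroup.mem_centralizer_singleton_iff.1 hcw)
        rw [e]
        simp only [Equiv.Perm.mul_apply] at h1
        rw [hf ⟨t, ht⟩ (by simp)] at h1
        exact h1

end upper

section lower

theorem growW_spec {ws : List (List ℕ)} (hws : ∀ e ∈ ws, okWord e = true) (R : ℕ → Prop)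
    (hR : ∀ u, R u → ∀ e ∈ ws, u < 1782 → R (evW e u)) :
    ∀ (tree : List (ℕ × ℕ)) (m c m' c' : ℕ), growW ws tree m c = some (m', c') →
      (∀ u, bit m u = true → u < 1782) →
      (∀ u, bit m' u = true → u < 1782) ∧
        ((∀ u, bit m u = true → R u) → ∀ u, bit m' u = true → R u) ∧
        ({u | bit m u = true}.ncard = c → {u | bit m' u = true}.ncard = c') := by
  intro tree
  induction tree with
  | nil =>
    intro m c m' c' h hlt
    simp only [growW, Option.some.injEq, Prod.mk.injEq] at h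
    obtain ⟨rfl, rfl⟩ := h
    exact ⟨hlt, fun h => h, fun h => h⟩
  | cons p l ih =>
    obtain ⟨u, g⟩ := p
    intro m c m' c' h hlt
    rw [growW] at h
    cases hc : (bit m u && Nat.blt g ws.length && !bit m (evW (ws.getD g []) u)) with
    | false => rw [hc, cond_false] at h; exact absurd h (by simp)
    | true =>
      simp only [hc, cond_true] at h
      simp only [Bool.and_eq_true, Nat.blt_eq, Bool.not_eq_true'] at hc
      obtain ⟨⟨hu, hgl⟩, hnew⟩ := hc
      set e := ws.getD g [] with he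
      have hmem : e ∈ ws := by rw [he, List.getD_eq_getElem _ _ hgl]; exact List.getElem_mem _
      have hlt' : ∀ v, bit (ins m (evW e u)) v = true → v < 1782 := fun v hv => by
        rcases (bit_ins _ _ _).1 hv with rfl | hv
        · rw [← act_word e (okWord_mem (hws e hmem)) ⟨u, hlt u hu⟩]
          exact Fin.is_lt _
        · exact hlt v hv
      obtain ⟨k2, k3, k4⟩ := ih _ _ m' c' h hlt'
      refine ⟨k2, fun hRm => k3 fun v hv => ?_, fun hcS => ?_⟩
      · rcases (bit_ins _ _ _).1 hv with rfl | hv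
        · exact hR u (hRm u hu) e hmem (hlt u hu)
        · exact hRm v hv
      · refine k4 ?_
        have hset : {v | bit (ins m (evW e u)) v = true} = insert (evW e u) {v | bit m v = true} := by
          ext v; simp only [Set.mem_ofPred_eq, Set.mem_insert_iff, bit_ins]
        rw [hset, Set.ncard_insert_of_notMem (s := {v | bit m v = true}) (fun hin => by
          have hin' : bit m (evW e u) = true := hin
          rw [hin'] at hnew; exact Bool.noConfusion hnew)
          ((Set.finite_lt_nat 1782).subset fun v hv => hlt v hv), hcS]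

theorem orbitW_le (K : Subgroup (Equiv.Perm (Fin 1782))) {ws : List (List ℕ)}
    (hws : ∀ e ∈ ws, okWord e = true ∧ (wordVal e : Equiv.Perm (Fin 1782)) ∈ K) {t : ℕ} (ht : t < 1782)
    {tree : List (ℕ × ℕ)} {k : ℕ} (h : orbitW ws t tree k = true) :
    k ≤ (MulAction.orbit K (⟨t, ht⟩ : Fin 1782)).ncard := by
  rw [orbitW] at h
  split at h
  swap
  · exact Bool.noConfusion h
  rename_i m c hgo
  obtain rfl := Nat.eq_of_beq_eq_true h
  have h0 : ∀ u, bit (ins 0 t) u = true → u = t := fun u hu => by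
    rcases (bit_ins _ _ _).1 hu with h | h
    · exact h
    · rw [bit_zero] at h; exact Bool.noConfusion h
  obtain ⟨k2, k3, k4⟩ := growW_spec (fun e he => (hws e he).1)
    (fun u => ∀ hu : u < 1782, (⟨u, hu⟩ : Fin 1782) ∈ MulAction.orbit K (⟨t, ht⟩ : Fin 1782))
    (fun u hu e he hun hv => by
      have e1 : (⟨evW e u, hv⟩ : Fin 1782) =
          (⟨(wordVal e : Equiv.Perm (Fin 1782)), (hws e he).2⟩ : K) • (⟨u, hun⟩ : Fin 1782) :=
        Fin.ext (act_word e (okWord_mem (hws e he).1) ⟨u, hun⟩).symm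
      rw [e1]
      exact MulAction.mem_orbit_of_mem_orbit _ (hu hun))
    tree _ _ _ _ hgo (fun u hu => h0 u hu ▸ ht)
  rw [← k4 (by
    rw [show {u | bit (ins 0 t) u = true} = {t} from Set.eq_singleton_iff_unique_mem.2
      ⟨(bit_ins _ _ _).2 (Or.inl rfl), h0⟩, Set.ncard_singleton])]
  rw [← Set.ncard_image_of_injective (MulAction.orbit K (⟨t, ht⟩ : Fin 1782)) Fin.val_injective]
  refine Set.ncard_le_ncard (fun u hu => ⟨⟨u, k2 u hu⟩, ?_, rfl⟩)
  exact k3 (fun v hv hvn => by
    obtain rfl := h0 v hv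
    exact MulAction.mem_orbit_self _) u hu _

theorem lower_spec (K : Subgroup (Equiv.Perm (Fin 1782))) : ∀ (Ls : List Step) (bs : List ℕ),
    lowerOK bs Ls = true → (∀ L ∈ Ls, ∀ g ∈ L.gens, (wordVal (dW g) : Equiv.Perm (Fin 1782)) ∈ K) →
      (Ls.map (·.k)).prod ≤ Nat.card ↥(K ⊓ fixList 1782 bs) := by
  intro Ls
  induction Ls with
  | nil => intro bs _ _; exact Nat.card_pos
  | cons L Ls ih =>
    intro bs h hK
    simp only [lowerOK, Bool.and_eq_true, Nat.blt_eq, List.all_eq_true, Nat.beq_eq] at h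
    obtain ⟨⟨⟨ht, hg⟩, horb⟩, hrest⟩ := h
    have hi := ih _ hrest fun M hM => hK M (List.mem_cons_of_mem _ hM)
    rw [card_split K bs ⟨L.t, ht⟩, List.map_cons, List.prod_cons]
    refine Nat.mul_le_mul (orbitW_le _ (fun e he => ?_) ht horb) hi
    obtain ⟨g, hgm, rfl⟩ := List.mem_map.1 he
    refine ⟨(hg g hgm).1, hK L List.mem_cons_self g hgm, mem_fixList.2 fun i hi => Fin.ext ?_⟩
    rw [act_word _ (okWord_mem (hg g hgm).1)]
    exact (hg g hgm).2 _ hi

end lower

end Cfsg.Agent.SuzRecog
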