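import Cfsg.Agent.Lib.SuzRecog.Data
import Cfsg.Agent.Lib.SuzOut.CentCert

/-! Kernel checks for the two centralisers of involutions. -/

set_option autoImplicit false
set_option maxRecDepth 100000
set_option Elab.async false

namespace Cfsg.Agent.SuzRecog

open Cfsg.Agent.SuzOut (evW okWord keyOf base sigIf)
open Cfsg.Agent.RigidGraph (cntB incOK)

/-- The two words give the same element. -/
def sameW (x y : List ℕ) : Bool := okWord x && okWord y && keyOf x == keyOf y

/-- The two words commute. -/
def commW (x y : List ℕ) : Bool := sameW (x ++ y) (y ++ x)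

/-- A word is the identity. -/
def oneW (x : List ℕ) : Bool := okWord x && keyOf x == base

/-- A word is not the identity. -/
def neOneW (x : List ℕ) : Bool := okWord x && !(keyOf x == base)

/-- The number of fixed points. -/
noncomputable def fixW (x : List ℕ) : ℕ := cntB (fun p => Nat.beq (evW x p) p) 1782

/-- The number of common fixed points. -/
noncomputable def fixW2 (x y : List ℕ) : ℕ := cntB (fun p => Nat.beq (evW x p) p && Nat.beq (evW y p) p) 1782

/-- The eight images as one number. -/
def codeW (x : List ℕ) : ℕ := (keyOf x).foldr (fun p r => Nat.add (Nat.mul r 2048) p) 0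

/-- The first involution. -/
def wA : List ℕ := dW nA

/-- The second involution. -/
def wW : List ℕ := dW nW

/-- The other generator of the four group. -/
def wV : List ℕ := dW nV

/-- The base of the class in the centraliser of the four group. -/
def wU : List ℕ := dW nU

/-- The four group. -/
def fourW (e : ℕ) : List ℕ := [[], wW, wV, wW ++ wV].getD e []

/-- The relations. -/
noncomputable def basicOK : Bool :=
  oneW (wA ++ wA) && oneW (wW ++ wW) && oneW (wV ++ wV) && neOneW wW && neOneW wV && !(keyOf wV == keyOf wW) &&
    commW wW wV && Nat.beq (fixW wA) 54 && Nat.beq (fixW wW) 42 && Nat.beq (fixW wV) 42 &&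
    Nat.beq (fixW (wW ++ wV)) 42 &&
    commW (dW nS) wW && sameW (dW nS ++ wV) (wW ++ wV ++ dW nS) &&
    commW wU wW && commW wU wV && sameW (dW nUc ++ wA) (wU ++ dW nUc)

/-- An outer element commutes with the second involution. -/
noncomputable def outerOK : Bool :=
  okWord (dW nR) && okWord wW &&
    base.map (fun b => sigIf 1 (evW (dW nR) (evW wW b))) == base.map (fun b => evW wW (sigIf 1 (evW (dW nR) b)))

/-- The orbit in the extraspecial subgroup. -/
def extraOK : Bool :=
  (loLevels.flatMap (·.gens)).all (fun g => commW (dW g) wA &&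
    perm54.any fun p => Nat.beq p.1 g && Nat.beq p.2.length orb54.length &&
      (List.zip orb54 p.2).all fun q => Nat.blt q.2 orb54.length &&
        sameW (dW g ++ dW q.1) (dW (orb54.getD q.2 0) ++ dW g)) &&
    orb54.all (fun x => sameW (dW (orb54.getD 0 0) ++ dW x) (dW x ++ dW (orb54.getD 0 0)) ||
      sameW (dW (orb54.getD 0 0) ++ dW x) (wA ++ dW x ++ dW (orb54.getD 0 0))) &&
    sameW (dW nXc ++ wA) (dW (orb54.getD 0 0) ++ dW nXc) && commW (dW (orb54.getD 0 0)) wA &&
    !(keyOf (dW (orb54.getD 0 0)) == keyOf wA) && Nat.blt 0 orb54.length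

/-- The class in the centraliser of the four group. -/
noncomputable def classOK : Bool :=
  orb315.all (fun r => commW (dW r.2) wW && commW (dW r.2) wV && sameW (dW r.1 ++ dW r.2) (dW r.2 ++ wU)) &&
    incOK id (orb315.map fun r => codeW (dW r.1)) && Nat.beq orb315.length 315 &&
    Nat.blt tri.1 315 && Nat.blt tri.2.1 315 && Nat.blt tri.2.2 315 &&
    sameW (dW (orb315.getD tri.1 (0, 0)).1 ++ dW (orb315.getD tri.2.1 (0, 0)).1)
      (dW (orb315.getD tri.2.2 (0, 0)).1) &&
    commW (dW (orb315.getD tri.1 (0, 0)).1) (dW (orb315.getD tri.2.1 (0, 0)).1)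

/-- A row of the centraliser of the base of the class. -/
def rowT (r : ℕ × ℕ × ℕ) : Bool :=
  commW (dW r.1) wW && commW (dW r.1) wV && commW (dW r.1) wU &&
    bif Nat.beq r.2.1 0 then Nat.blt r.2.2 4 && sameW (dW r.1) (fourW r.2.2)
    else bif Nat.beq r.2.1 1 then (List.range 4).all fun e => !(keyOf (dW r.1 ++ dW r.1) == keyOf (fourW e))
    else Nat.blt (r.2.1 - 2) 4 && Nat.blt r.2.2 reps.length &&
      sameW (dW r.1) (dW (orb315.getD (reps.getD r.2.2 (0, 0, 0, 0)).1 (0, 0)).1 ++ fourW (r.2.1 - 2))

/-- The centraliser of the base of the class. -/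
noncomputable def sylOK : Bool :=
  sylTwo.all rowT && incOK id (sylTwo.map fun r => codeW (dW r.1)) && Nat.beq sylTwo.length 256

/-- The translates of a member are in the other class. -/
def repOK (r : ℕ × ℕ × ℕ × ℕ) : Bool :=
  Nat.blt r.1 315 && ([(1, r.2.1), (2, r.2.2.1), (3, r.2.2.2)].all fun p =>
    sameW (dW p.2 ++ wW) (dW (orb315.getD r.1 (0, 0)).1 ++ fourW p.1 ++ dW p.2))

/-- The elements of order five and seven. -/
noncomputable def sylOddOK : Bool :=
  neOneW (dW nFive) && commW (dW nFive) wW && commW (dW nFive) wV &&
    oneW ((List.replicate 5 (dW nFive)).flatten) && Nat.beq (fixW2 wW (dW nFive)) 2 &&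
    neOneW (dW nSeven) && commW (dW nSeven) wW && commW (dW nSeven) wV &&
    oneW ((List.replicate 7 (dW nSeven)).flatten) && Nat.beq (fixW2 wW (dW nSeven)) 0

theorem basic_ok : basicOK = true := by decide +kernel

theorem outer_comm : outerOK = true := by decide +kernel

theorem upper_ok : upperOK wW [] upLevels = true := by decide +kernel

theorem lower_ok : lowerOK [] loLevels = true := by decide +kernel

theorem extra_ok : extraOK = true := by decide +kernel

theorem class_ok : classOK = true := by decide +kernel

theorem syl_ok : sylOK = true := by decide +kernel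

theorem reps_ok : reps.all repOK = true := by decide +kernel

theorem sylOdd_ok : sylOddOK = true := by decide +kernel

theorem up_prod : (upLevels.map Prod.snd).prod = 322560 := by decide +kernel

theorem lo_prod : (loLevels.map (·.k)).prod = 3317760 := by decide +kernel

end Cfsg.Agent.SuzRecog
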