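import Cfsg.Agent.Lib.SuzRecog.Four
import Mathlib.GroupTheory.Perm.Cycle.Type
import Mathlib.GroupTheory.Index
import Mathlib.Tactic

/-!
No subgroup of the centraliser of the four group is abelian of order 315 modulo the four group.
-/

set_option autoImplicit false
set_option linter.unusedSectionVars false

namespace Cfsg.Agent.SuzRecog

open Subgroup

variable {S : Type*} [Group S] {a w v : S}

theorem orderOf_fourth {p : ℕ} [Fact p.Prime] {y : S} (h1 : (y ^ 4) ≠ 1) (h : ((y ^ p) ^ 4) = 1) :
    orderOf (y ^ 4) = p := by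
  refine orderOf_eq_prime ?_ h1
  rwa [← pow_mul, mul_comm, pow_mul]

/-- A group with central four group whose quotient is abelian has no order divisible by 35 modulo
the four group. -/
theorem Facts.no_abelian_quotient (F : Facts a w v) [Finite S] {X : Subgroup S}
    (hX : ∀ x ∈ X, InH w v x) (hV : F.four ≤ X) [(F.four.subgroupOf X).Normal]
    (hc : ∀ x ∈ X, ∀ y ∈ X, InV w v (x * y * x⁻¹ * y⁻¹))
    (h35 : 35 ∣ Nat.card (X ⧸ F.four.subgroupOf X)) : False := by
  haveI : Fact (Nat.Prime 5) := ⟨by norm_num⟩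
  haveI : Fact (Nat.Prime 7) := ⟨by norm_num⟩
  have lift : ∀ p : ℕ, [Fact p.Prime] → 2 < p → p ∣ Nat.card (X ⧸ F.four.subgroupOf X) →
      ∃ x ∈ X, orderOf x = p := by
    intro p hp h2 hd
    obtain ⟨q, hq⟩ := exists_prime_orderOf_dvd_card' p hd
    induction q using QuotientGroup.induction_on with
    | _ x =>
      have hxp : InV w v ((x : S) ^ p) := by
        have h := pow_orderOf_eq_one (x : X ⧸ F.four.subgroupOf X)
        rw [hq, ← QuotientGroup.mk_pow, QuotientGroup.eq_one_iff, mem_subgroupOf, F.mem_four,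
          SubmonoidClass.coe_pow] at h
        exact h
      have h4 : ((x : S) ^ p) ^ 4 = 1 := by
        rw [show 4 = 2 * 2 from rfl, pow_mul, pow_two ((x : S) ^ p), F.inV_sq hxp, one_pow]
      refine ⟨(x : S) ^ 4, pow_mem x.2 4, orderOf_fourth (fun e => ?_) h4⟩
      have h : (x : X ⧸ F.four.subgroupOf X) ^ 4 = 1 := by
        rw [← QuotientGroup.mk_pow, QuotientGroup.eq_one_iff, mem_subgroupOf, F.mem_four,
          SubmonoidClass.coe_pow, e]
        exact Or.inl rfl
      have hdvd := orderOf_dvd_of_pow_eq_one h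
      rw [hq] at hdvd
      have h5 : p ∣ 2 * 2 := hdvd
      rcases (hp.out.dvd_mul).1 h5 with h6 | h6 <;>
      · have := Nat.le_of_dvd (by norm_num) h6
        omega
  obtain ⟨x, hx, hox⟩ := lift 5 (by norm_num) (dvd_trans (by norm_num) h35)
  obtain ⟨y, hy, hoy⟩ := lift 7 (by norm_num) (dvd_trans (by norm_num) h35)
  refine F.no35 x y (hX x hx) (hX y hy) hox hoy ?_
  set e := x * y * x⁻¹ * y⁻¹ with he
  have hev := hc x hx y hy
  have hce : ∀ n : ℕ, x ^ n * y * (x ^ n)⁻¹ = e ^ n * y := by
    intro n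
    induction n with
    | zero => simp
    | succ n ih =>
      have h1 : x * e ^ n = e ^ n * x := (Commute.pow_right (F.inV_central (hX x hx) hev) n).eq
      calc x ^ (n + 1) * y * (x ^ (n + 1))⁻¹ = x * (x ^ n * y * (x ^ n)⁻¹) * x⁻¹ := by
            rw [pow_succ']; group
        _ = x * e ^ n * y * x⁻¹ := by rw [ih]; group
        _ = e ^ n * (x * y * x⁻¹) := by rw [h1]; group
        _ = e ^ n * (e * y) := by rw [he]; group
        _ = e ^ (n + 1) * y := by rw [pow_succ]; group
  have h5 := hce 5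
  rw [← hox, pow_orderOf_eq_one, hox, one_mul, inv_one, mul_one] at h5
  have he1 : e = 1 := by
    have h6 : e ^ 5 = 1 := right_eq_mul.1 h5
    calc e = e * (e * e) * (e * e) := by rw [F.inV_sq hev, mul_one, mul_one]
      _ = e ^ 5 := by simp [pow_succ, mul_assoc]
      _ = 1 := h6
  rw [he] at he1
  exact mul_inv_eq_iff_eq_mul.1 (mul_inv_eq_one.1 he1)

end Cfsg.Agent.SuzRecog
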