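import Cfsg.Agent.Lib.SuzRecog.Facts
import Cfsg.Agent.Lib.SuzRecog.Involution

/-!
A copy of the Suzuki group inside a group, containing the centraliser of an involution: the classes
of the involutions do not fuse and each such involution fixes one coset.
-/

set_option autoImplicit false
set_option linter.unusedSectionVars false

namespace Cfsg.Agent.SuzRecog

open Subgroup

variable {G : Type*} [Group G] {S : Type*} [Group S]

/-- The embedded copy. -/
structure Emb (z : G) (φ : S →* G) (a w v : S) : Prop where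
  F : Facts a w v
  inj : Function.Injective φ
  z_eq : φ a = z
  cent : ∀ x, x * z = z * x → x ∈ φ.range
  classes : ∀ x : S, x * x = 1 → x ≠ 1 → IsConj a x ∨ IsConj w x
  other : ∃ t, t * t = 1 ∧ t ≠ 1 ∧ t * z = z * t ∧ ¬ IsConj z t

namespace Emb

variable {z : G} {φ : S →* G} {a w v : S} (E : Emb z φ a w v)
include E

theorem z_sq : z * z = 1 := by rw [← E.z_eq, ← map_mul, E.F.a2, map_one]

theorem conj_z {x : S} (h : IsConj a x) : IsConj z (φ x) := E.z_eq ▸ φ.map_isConj h

theorem not_conj_w : ¬ IsConj z (φ w) := by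
  obtain ⟨t, ht2, ht1, htz, hn⟩ := E.other
  obtain ⟨t', rfl⟩ := E.cent t htz
  intro hw
  rcases E.classes t' (E.inj (by rw [map_mul, ht2, map_one])) (fun e => ht1 (by rw [e, map_one])) with h | h
  · exact hn (E.conj_z h)
  · exact hn (hw.trans (φ.map_isConj h))

/-- The classes of the copy do not fuse. -/
theorem conj_a {x : S} (h : IsConj z (φ x)) (hx1 : x ≠ 1) : IsConj a x := by
  have h2 : x * x = 1 := by
    obtain ⟨c, hc⟩ := isConj_iff.1 h
    refine E.inj ?_
    rw [map_mul, map_one, ← hc, show c * z * c⁻¹ * (c * z * c⁻¹) = c * (z * z) * c⁻¹ by group, E.z_sq]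
    group
  rcases E.classes x h2 hx1 with h' | h'
  · exact h'
  · exact absurd (h.trans (φ.map_isConj h').symm) E.not_conj_w

theorem a_ne_one : a ≠ 1 := by
  intro h
  have hset : {x | InH w v x ∧ IsConj a x} ⊆ {1} := fun x hx => by
    have := hx.2
    rw [h] at this
    exact (isConj_one_right.1 this)
  have := Set.ncard_le_ncard hset (Set.finite_singleton 1)
  rw [E.F.k315, Set.ncard_singleton] at this
  omega

theorem ne_one_of_conj {x : S} (h : IsConj a x) : x ≠ 1 := fun e =>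
  E.a_ne_one (isConj_one_left.1 (e ▸ h))

/-- The centraliser of an element of the class lies in the copy. -/
theorem cent_conj {x : S} (h : IsConj a x) {g : G} (hg : g * φ x = φ x * g) : g ∈ φ.range := by
  obtain ⟨c, rfl⟩ := isConj_iff.1 h
  have hk : (φ c)⁻¹ * g * φ c * z = z * ((φ c)⁻¹ * g * φ c) := by
    rw [← E.z_eq]
    calc (φ c)⁻¹ * g * φ c * φ a = (φ c)⁻¹ * (g * φ (c * a * c⁻¹)) * φ c := by
          simp [map_mul, mul_assoc]
      _ = (φ c)⁻¹ * (φ (c * a * c⁻¹) * g) * φ c := by rw [hg]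
      _ = φ a * ((φ c)⁻¹ * g * φ c) := by simp [map_mul, mul_assoc]
  obtain ⟨m, hm⟩ := E.cent _ hk
  exact ⟨c * m * c⁻¹, by rw [map_mul, map_mul, hm, map_inv]; group⟩

/-- A conjugate of `z` is conjugated into the copy by one coset only. -/
theorem unique_coset {u : G} (hu : IsConj z u) {g h : G} (hg : g⁻¹ * u * g ∈ φ.range)
    (hh : h⁻¹ * u * h ∈ φ.range) : g⁻¹ * h ∈ φ.range := by
  obtain ⟨x, hx⟩ := hg
  obtain ⟨y, hy⟩ := hh
  have hne : ∀ (s : S) (k : G), φ s = k⁻¹ * u * k → s ≠ 1 := fun s k he e => by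
    obtain ⟨c, hc⟩ := isConj_iff.1 hu
    have hz : z = 1 := by
      rw [e, map_one, ← hc] at he
      calc z = c⁻¹ * k * (k⁻¹ * (c * z * c⁻¹) * k) * (k⁻¹ * c) := by group
        _ = 1 := by rw [← he]; group
    exact E.a_ne_one (E.inj (by rw [E.z_eq, hz, map_one]))
  have hcx : IsConj a x := E.conj_a (hx ▸ hu.trans (isConj_iff.2 ⟨g⁻¹, by group⟩)) (hne x g hx)
  have hcy : IsConj a y := E.conj_a (hy ▸ hu.trans (isConj_iff.2 ⟨h⁻¹, by group⟩)) (hne y h hy)
  obtain ⟨m, hm⟩ := isConj_iff.1 (hcy.symm.trans hcx)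
  have hk : g⁻¹ * h * (φ m)⁻¹ * φ x = φ x * (g⁻¹ * h * (φ m)⁻¹) := by
    conv_lhs => rw [← hm, map_mul, map_mul, map_inv, hy]
    rw [hx]
    group
  obtain ⟨r, hr⟩ := E.cent_conj hcx hk
  exact ⟨r * m, by rw [map_mul, hr]; group⟩

theorem mem_of_conj_mem {u : S} (hu : IsConj a u) {d : G} (h : d⁻¹ * φ u * d ∈ φ.range) : d ∈ φ.range := by
  have := E.unique_coset (E.conj_z hu) (g := 1) (h := d) ⟨u, by group⟩ h
  simpa using this

end Emb

end Cfsg.Agent.SuzRecog
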