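import Mathlib.GroupTheory.Subgroup.Simple
import Mathlib.GroupTheory.OrderOfElement
import Mathlib.GroupTheory.GroupAction.Quotient

/-!
The local data of the two classes of involutions which the recognition of the Suzuki group uses.
-/

set_option autoImplicit false

namespace Cfsg.Agent.SuzRecog

/-- Commuting with both `w` and `v`. -/
def InH {S : Type*} [Group S] (w v x : S) : Prop := x * w = w * x ∧ x * v = v * x

/-- Being one of the four elements generated by `w` and `v`. -/
def InV {S : Type*} [Group S] (w v x : S) : Prop := x = 1 ∨ x = w ∨ x = v ∨ x = w * v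

/-- The data: `a` and `w` represent the two classes of involutions, `v` is the second generator of
the four group of the centraliser of `w`. -/
structure Facts {S : Type*} [Group S] (a w v : S) : Prop where
  a2 : a * a = 1
  w2 : w * w = 1
  w1 : w ≠ 1
  v2 : v * v = 1
  v1 : v ≠ 1
  v_ne : v ≠ w
  wv : w * v = v * w
  nconj : ¬ IsConj a w
  swap : ∃ s, s * w = w * s ∧ s * v * s⁻¹ = w * v
  norm : ∀ c, c * w = w * c → c * v * c⁻¹ = v ∨ c * v * c⁻¹ = w * v
  k315 : {x | InH w v x ∧ IsConj a x}.ncard = 315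
  card0 : {x | InH w v x}.ncard = 80640
  exists_tr : ∀ x, InH w v x → x * x = 1 → ¬ InV w v x → ∃ e, InV w v e ∧ IsConj a (x * e)
  unique_tr : ∀ x, InH w v x → IsConj a x → ∀ e, InV w v e → IsConj a (x * e) → e = 1
  sq0 : ∀ x, InH w v x → InV w v (x * x) → x * x = 1
  no35 : ∀ x y, InH w v x → InH w v y → orderOf x = 5 → orderOf y = 7 → x * y ≠ y * x
  triple : ∃ u₁ u₂, InH w v u₁ ∧ InH w v u₂ ∧ IsConj a u₁ ∧ IsConj a u₂ ∧ u₁ * u₂ = u₂ * u₁ ∧
    IsConj a (u₁ * u₂)

end Cfsg.Agent.SuzRecog
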