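import Cfsg.Agent.Lib.SuzRecog.Facts
import Mathlib.GroupTheory.QuotientGroup.Basic
import Mathlib.Tactic.Group

/-!
The four group and its centraliser inside the abstract copy.
-/

set_option autoImplicit false
set_option linter.unusedSectionVars false

namespace Cfsg.Agent.SuzRecog

open Subgroup

variable {S : Type*} [Group S] {a w v : S}

namespace Facts

variable (F : Facts a w v)
include F

theorem inH_w : InH w v w := ⟨rfl, F.wv⟩

theorem inH_v : InH w v v := ⟨F.wv.symm, rfl⟩

theorem inV_mul {x y : S} (hx : InV w v x) (hy : InV w v y) : InV w v (x * y) := by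
  have h1 : w * (w * v) = v := by rw [← mul_assoc, F.w2, one_mul]
  have h2 : v * (w * v) = w := by rw [F.wv, ← mul_assoc, F.v2, one_mul]
  have h3 : w * v * w = v := by rw [F.wv, mul_assoc, F.w2, mul_one]
  have h4 : w * v * v = w := by rw [mul_assoc, F.v2, mul_one]
  have h5 : w * v * (w * v) = 1 := by rw [mul_assoc, h2, F.w2]
  rcases hx with rfl | rfl | rfl | rfl <;> rcases hy with rfl | rfl | rfl | rfl <;>
    simp [InV, one_mul, mul_one, F.w2, F.v2, ← F.wv, h1, h2, h3, h4, h5]

theorem inV_sq {x : S} (hx : InV w v x) : x * x = 1 := by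
  rcases hx with rfl | rfl | rfl | rfl
  · exact one_mul 1
  · exact F.w2
  · exact F.v2
  · rw [mul_assoc, F.wv, ← mul_assoc v v, F.v2, one_mul, F.w2]

theorem inV_inH {x : S} (hx : InV w v x) : InH w v x := by
  rcases hx with rfl | rfl | rfl | rfl
  · exact ⟨by simp, by simp⟩
  · exact F.inH_w
  · exact F.inH_v
  · exact ⟨((show Commute w w from rfl).mul_left (show Commute v w from F.wv.symm)).eq,
      ((show Commute w v from F.wv).mul_left (show Commute v v from rfl)).eq⟩

theorem inV_central {x e : S} (hx : InH w v x) (he : InV w v e) : x * e = e * x := by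
  rcases he with rfl | rfl | rfl | rfl
  · simp
  · exact hx.1
  · exact hx.2
  · exact ((show Commute x w from hx.1).mul_right (show Commute x v from hx.2)).eq

/-- The four group. -/
def four : Subgroup S where
  carrier := {x | InV w v x}
  one_mem' := Or.inl rfl
  mul_mem' := fun hx hy => F.inV_mul hx hy
  inv_mem' := fun {x} hx => by rwa [Set.mem_ofPred_eq, inv_eq_of_mul_eq_one_right (F.inV_sq hx)]

theorem mem_four {x : S} : x ∈ F.four ↔ InV w v x := Iff.rfl

theorem card_four : Nat.card F.four = 4 := by
  have hset : (F.four : Set S) = {1, w, v, w * v} := by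
    ext x
    simp [mem_four, InV]
  rw [show Nat.card F.four = (F.four : Set S).ncard from Nat.card_coe_set_eq _, hset]
  have h1 : w * v ≠ 1 := fun e => F.v_ne (mul_left_cancel (e.trans F.w2.symm))
  have h2 : w * v ≠ w := fun e => F.v1 (mul_eq_left.1 e)
  have h3 : w * v ≠ v := fun e => F.w1 (mul_eq_right.1 e)
  rw [Set.ncard_insert_of_notMem (by simp [F.w1.symm, F.v1.symm, h1.symm]) (by simp),
    Set.ncard_insert_of_notMem (by simp [F.v_ne.symm, h2.symm]) (by simp),
    Set.ncard_pair h3.symm]

theorem centre_card : Nat.card ↥(centralizer ({w} : Set S) ⊓ centralizer ({v} : Set S)) = 80640 := by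
  rw [← F.card0, ← Nat.card_coe_set_eq]
  exact Nat.card_congr (Equiv.subtypeEquivRight fun x => by
    simp [mem_centralizer_singleton_iff, InH])

end Facts

theorem mem_cent {x : S} :
    x ∈ centralizer ({w} : Set S) ⊓ centralizer ({v} : Set S) ↔ InH w v x := by
  simp [mem_centralizer_singleton_iff, InH]

end Cfsg.Agent.SuzRecog
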