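import Cfsg.Agent.Lib.SuzRecog.Inverted

/-!
The centraliser of the four group lies in the copy.
-/

set_option autoImplicit false
set_option linter.unusedSectionVars false
set_option linter.style.haveILetI false
set_option linter.unusedVariables false

namespace Cfsg.Agent.SuzRecog

open Subgroup

variable {G : Type*} [Group G] [Finite G] {S : Type*} [Group S] [Finite S] {z : G} {φ : S →* G} {a w v : S}

/-- Pigeonhole over the cosets other than one of them. -/
theorem exists_large_fibre {P X : Type*} [Finite P] [Finite X] (ψ : P → X) (x₀ : X) {k : ℕ}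
    (hX : 2 ≤ Nat.card X) (hP : Nat.card P = Nat.card X * k) (h0 : Nat.card {p // ψ p = x₀} ≤ k)
    (hk : 0 < k) :
    ∃ x, x ≠ x₀ ∧ k ≤ Nat.card {p // ψ p = x} := by
  classical
  haveI := Fintype.ofFinite P
  haveI := Fintype.ofFinite X
  by_contra hne
  push Not at hne
  have hsum : Nat.card P = ∑ x, Nat.card {p // ψ p = x} := by
    rw [← Nat.card_sigma, Nat.card_congr (Equiv.sigmaFiberEquiv ψ)]
  have hle : ∑ x, Nat.card {p // ψ p = x} ≤ k + (Fintype.card X - 1) * (k - 1) := by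
    rw [← Finset.add_sum_erase _ _ (Finset.mem_univ x₀)]
    refine add_le_add h0 ?_
    refine (Finset.sum_le_card_nsmul _ _ (k - 1) fun x hx => ?_).trans ?_
    · have := hne x (Finset.ne_of_mem_erase hx)
      omega
    · rw [Finset.card_erase_of_mem (Finset.mem_univ _), Finset.card_univ, smul_eq_mul]
  rw [← hsum, hP, Nat.card_eq_fintype_card (α := X)] at hle
  rw [Nat.card_eq_fintype_card] at hX
  obtain ⟨m, hm⟩ : ∃ m, Fintype.card X = m + 2 := ⟨Fintype.card X - 2, by omega⟩
  obtain ⟨j, rfl⟩ : ∃ j, k = j + 1 := ⟨k - 1, by omega⟩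
  rw [hm] at hle
  simp only [show m + 2 - 1 = m + 1 by omega, Nat.add_sub_cancel] at hle
  nlinarith

namespace Emb

variable (E : Emb z φ a w v)
include E

theorem four_cent {g : G} (hgw : g * φ w = φ w * g) (hgv : g * φ v = φ v * g) : g ∈ φ.range := by
  classical
  by_contra hg
  set H := centralizer ({φ w} : Set G) ⊓ centralizer ({φ v} : Set G) with hH
  have memH : ∀ {x : G}, x ∈ H ↔ x * φ w = φ w * x ∧ x * φ v = φ v * x := fun {x} => by
    rw [hH, mem_inf, mem_centralizer_singleton_iff, mem_centralizer_singleton_iff]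
  have hgH : g ∈ H := memH.2 ⟨hgw, hgv⟩
  let X := H ⧸ φ.range.subgroupOf H
  let T := {x : S // InH w v x ∧ IsConj a x}
  have hT : Nat.card T = 315 := by
    rw [← E.F.k315]; exact Nat.card_coe_set_eq _
  have hX : 2 ≤ Nat.card X := by
    haveI : Nontrivial X := ⟨(⟨g, hgH⟩ : H), ((1 : H) : X), fun e => hg (by
      rw [QuotientGroup.eq, mem_subgroupOf, Subgroup.coe_mul, Subgroup.coe_inv] at e
      simpa using e)⟩
    exact Finite.one_lt_card
  have hTH : ∀ u : T, φ u.1 ∈ H := fun u => memH.2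
    ⟨by rw [← map_mul, ← map_mul, u.2.1.1], by rw [← map_mul, ← map_mul, u.2.1.2]⟩
  let el : X × T → H := fun p => Quotient.out p.1 * ⟨φ p.2.1, hTH p.2⟩ * (Quotient.out p.1)⁻¹
  have hel : ∀ p, ((el p : H) : G) = (Quotient.out p.1 : H) * φ p.2.1 * ((Quotient.out p.1 : H) : G)⁻¹ :=
    fun p => rfl
  have hout : ∀ q : X, ((Quotient.out q : H) : X) = q := fun q => QuotientGroup.out_eq' q
  have hconj : ∀ p, IsConj z (el p : G) := fun p =>
    (E.conj_z p.2.2.2).trans (isConj_iff.2 ⟨(Quotient.out p.1 : H), rfl⟩)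
  have hcoset : ∀ p : X × T, (el p : G) ∈ φ.range → p.1 = ((1 : H) : X) := by
    intro p hp
    have h := E.mem_of_conj_mem p.2.2.2 (d := ((Quotient.out p.1 : H) : G)⁻¹)
      (by rwa [inv_inv, ← hel])
    rw [← hout p.1, QuotientGroup.eq, mem_subgroupOf]
    simpa using h
  have hinj : Function.Injective el := by
    rintro ⟨q, u⟩ ⟨q', u'⟩ h
    have hh := congrArg (fun x : H => (x : G)) h
    simp only [hel] at hh
    set c := (Quotient.out q : H)
    set c' := (Quotient.out q' : H)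
    have hd : ((c : G)⁻¹ * c') ∈ φ.range := by
      refine E.mem_of_conj_mem u.2.2 ⟨u'.1, ?_⟩
      calc φ u'.1 = (c' : G)⁻¹ * ((c' : G) * φ u'.1 * (c' : G)⁻¹) * c' := by group
        _ = ((c : G)⁻¹ * c')⁻¹ * φ u.1 * ((c : G)⁻¹ * c') := by rw [← hh]; group
    have hq : q = q' := by
      rw [← hout q, ← hout q', QuotientGroup.eq, mem_subgroupOf]
      exact hd
    subst hq
    have hu : φ u.1 = φ u'.1 := mul_left_cancel (mul_right_cancel hh)
    exact Prod.ext rfl (Subtype.ext (E.inj hu))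
  let ψ : X × T → X := fun p => (el p : X)
  have h0 : Nat.card {p // ψ p = ((1 : H) : X)} ≤ 315 := by
    rw [← hT]
    refine Nat.card_le_card_of_injective (fun p => p.1.2) ?_
    rintro ⟨⟨q, u⟩, hp⟩ ⟨⟨q', u'⟩, hp'⟩ h
    have hmem : ∀ p : X × T, ψ p = ((1 : H) : X) → p.1 = ((1 : H) : X) := fun p hp => hcoset p (by
      have := (QuotientGroup.eq.1 hp)
      rw [mem_subgroupOf] at this
      simpa using this)
    have h1 := hmem _ hp
    have h2 := hmem _ hp'
    simp only at h h1 h2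
    subst h h1 h2
    rfl
  obtain ⟨x, hx, hbig⟩ := exists_large_fibre ψ ((1 : H) : X) hX
    (by rw [Nat.card_prod, hT]) h0 (by norm_num)
  haveI : Nonempty {p // ψ p = x} := (Nat.card_pos_iff.1 (by omega)).1
  obtain ⟨p₀⟩ := this
  set t : G := (el p₀.1 : G) with ht
  have htt : t * t = 1 := by
    obtain ⟨c, hc⟩ := isConj_iff.1 (hconj p₀.1)
    rw [ht, ← hc, show c * z * c⁻¹ * (c * z * c⁻¹) = c * (z * z) * c⁻¹ by group, E.z_sq]
    group
  have htH := memH.1 (el p₀.1).2
  have htout : t ∉ φ.range := fun h => hx (by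
    rw [← p₀.2, QuotientGroup.eq, mem_subgroupOf]
    simpa using h)
  have hmem : ∀ p : {p // ψ p = x}, t * (el p.1 : G) ∈ φ.range := fun p => by
    have h := (QuotientGroup.eq.1 (p₀.2.trans p.2.symm) : (el p₀.1)⁻¹ * el p.1 ∈ φ.range.subgroupOf H)
    rw [mem_subgroupOf, Subgroup.coe_mul, Subgroup.coe_inv, inv_eq_of_mul_eq_one_right htt] at h
    exact h
  choose f hf using hmem
  have hsq : ∀ p : X × T, (el p : G) * el p = 1 := fun p => by
    obtain ⟨c, hc⟩ := isConj_iff.1 (hconj p)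
    rw [← hc, show c * z * c⁻¹ * (c * z * c⁻¹) = c * (z * z) * c⁻¹ by group, E.z_sq]
    group
  have hinv : ∀ i, t * φ (f i) * t⁻¹ = (φ (f i))⁻¹ := fun i => by
    rw [hf, mul_inv_rev, inv_eq_of_mul_eq_one_right (hsq i.1), inv_eq_of_mul_eq_one_right htt,
      ← mul_assoc t t, htt, one_mul]
  have hfst : ∀ i, f i ∈ E.stay t := fun i => by
    have hh := memH.1 (mul_mem (el p₀.1).2 (el i.1).2 : t * (el i.1 : G) ∈ H)
    rw [← hf] at hh
    refine E.mem_stay.2 ⟨⟨E.inj (by rw [map_mul, map_mul]; exact hh.1),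
      E.inj (by rw [map_mul, map_mul]; exact hh.2)⟩, ?_⟩
    rw [hinv]
    exact inv_mem ⟨f i, rfl⟩
  refine E.no_inverted_set htt htH.1 htH.2 htout hbig f hfst hinv fun i j hij => ?_
  obtain ⟨e, he⟩ : ∃ e, e = (f i)⁻¹ * f j := ⟨_, rfl⟩
  rw [← he] at hij
  have hej : (el j.1 : G) = (el i.1 : G) * φ e := by
    rw [he, map_mul, map_inv, hf, hf, mul_inv_rev, inv_eq_of_mul_eq_one_right htt,
      inv_eq_of_mul_eq_one_right (hsq i.1)]
    rw [show ∀ x y : G, x * (x * t * (t * y)) = (x * x) * (t * t) * y from fun x y => by group, htt, hsq, one_mul, one_mul]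
  have hc : ((Quotient.out i.1.1 : H) : G) * φ e = φ e * ((Quotient.out i.1.1 : H) : G) := by
    have hh := memH.1 (Quotient.out i.1.1 : H).2
    rcases hij with h | h | h | h <;> rw [h]
    · simp
    · exact hh.1
    · exact hh.2
    · rw [map_mul]
      exact ((show Commute _ _ from hh.1).mul_right (show Commute _ _ from hh.2)).eq
  have hcu : IsConj a (i.1.2.1 * e) := by
    refine E.conj_a ?_ fun e1 => ?_
    · refine (hconj j.1).trans (isConj_iff.2 ⟨((Quotient.out i.1.1 : H) : G)⁻¹, ?_⟩)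
      rw [hej, hel, map_mul]
      set c := ((Quotient.out i.1.1 : H) : G)
      calc c⁻¹ * (c * φ i.1.2.1 * c⁻¹ * φ e) * c⁻¹⁻¹ = φ i.1.2.1 * (c⁻¹ * (φ e * c)) := by group
        _ = φ i.1.2.1 * φ e := by rw [← hc]; group
    · have h1 : φ i.1.2.1 * φ e = 1 := by rw [← map_mul, e1, map_one]
      obtain ⟨c, hcj⟩ := isConj_iff.1 (hconj j.1)
      have h2 : (el j.1 : G) = 1 := by
        rw [hej, hel]
        set c := ((Quotient.out i.1.1 : H) : G)
        calc c * φ i.1.2.1 * c⁻¹ * φ e = c * φ i.1.2.1 * (c⁻¹ * (φ e * c)) * c⁻¹ := by group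
          _ = c * (φ i.1.2.1 * φ e) * c⁻¹ := by rw [← hc]; group
          _ = 1 := by rw [h1]; group
      rw [h2] at hcj
      exact E.a_ne_one (E.inj (by rw [E.z_eq, map_one]; exact conj_eq_one_iff.1 hcj))
  have he1 := E.F.unique_tr _ i.1.2.2.1 i.1.2.2.2 e hij hcu
  refine Subtype.ext (hinj (Subtype.ext ?_))
  rw [hej, he1, map_one, mul_one]

end Emb

end Cfsg.Agent.SuzRecog
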