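import Cfsg.Agent.Lib.SuzRecog.Emb
import Cfsg.Agent.Lib.SuzRecog.Commuting

/-!
An element outside the copy cannot invert 315 elements of the centraliser of the four group modulo it.
-/

set_option autoImplicit false
set_option linter.unusedSectionVars false

namespace Cfsg.Agent.SuzRecog

open Subgroup

variable {G : Type*} [Group G] {S : Type*} [Group S] [Finite S] {z : G} {φ : S →* G} {a w v : S}

theorem conj_conj_invol {t : G} (ht : t * t = 1) (x : G) : t * (t * x * t⁻¹) * t⁻¹ = x := by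
  calc t * (t * x * t⁻¹) * t⁻¹ = (t * t) * x * (t * t)⁻¹ := by group
    _ = x := by rw [ht]; group

namespace Emb

variable (E : Emb z φ a w v)
include E

/-- The elements of the centraliser of the four group which stay in the copy under conjugation by `t`. -/
def stay (t : G) : Subgroup S :=
  have := E
  (centralizer ({w} : Set S) ⊓ centralizer ({v} : Set S)) ⊓
    (φ.range.comap ((MulAut.conj t).toMonoidHom.comp φ))

theorem mem_stay {t : G} {x : S} :
    x ∈ E.stay t ↔ InH w v x ∧ t * φ x * t⁻¹ ∈ φ.range := by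
  rw [stay, mem_inf, mem_cent]
  exact Iff.rfl

variable {t : G} (htt : t * t = 1) (htw : t * φ w = φ w * t) (htv : t * φ v = φ v * t)
  (hout : t ∉ φ.range)
include htt htw htv

theorem conj_w : t * φ w * t⁻¹ = φ w := mul_inv_eq_iff_eq_mul.2 htw

theorem conj_v : t * φ v * t⁻¹ = φ v := mul_inv_eq_iff_eq_mul.2 htv

theorem conj_four {x : S} (hx : InV w v x) : t * φ x * t⁻¹ = φ x := by
  rcases hx with rfl | rfl | rfl | rfl
  · simp
  · exact E.conj_w htt htw htv
  · exact E.conj_v htt htw htv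
  · rw [map_mul, ← conj_mul, E.conj_w htt htw htv, E.conj_v htt htw htv]

theorem four_le_stay : E.F.four ≤ E.stay t := fun x hx =>
  E.mem_stay.2 ⟨E.F.inV_inH hx, by rw [E.conj_four htt htw htv hx]; exact ⟨x, rfl⟩⟩

theorem exists_tau : ∃ τ : E.stay t →* E.stay t, ∀ x : E.stay t, φ (τ x : S) = t * φ (x : S) * t⁻¹ := by
  have h : ∀ x : E.stay t, ∃ y : E.stay t, φ (y : S) = t * φ (x : S) * t⁻¹ := by
    intro x
    obtain ⟨⟨h1, h2⟩, y, hy⟩ := E.mem_stay.1 x.2
    have hc : ∀ u : S, t * φ u * t⁻¹ = φ u → (x : S) * u = u * x → y * u = u * y := fun u hu hxu => by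
      refine E.inj ?_
      rw [map_mul, map_mul, hy, ← hu, conj_mul, conj_mul, ← map_mul, ← map_mul, hxu]
    exact ⟨⟨y, E.mem_stay.2 ⟨⟨hc w (E.conj_w htt htw htv) h1, hc v (E.conj_v htt htw htv) h2⟩,
      ⟨x, by rw [hy, conj_conj_invol htt]⟩⟩⟩, hy⟩
  choose f hf using h
  refine ⟨MonoidHom.mk' f fun x y => Subtype.ext (E.inj ?_), hf⟩
  rw [Subgroup.coe_mul, map_mul, hf, hf, hf, Subgroup.coe_mul, map_mul, conj_mul]

include hout in
theorem free_outside {u : S} (hu : u ∈ E.stay t) (hau : IsConj a u) : t * φ u * t⁻¹ ≠ φ u := fun h =>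
  hout (E.cent_conj hau (mul_inv_eq_iff_eq_mul.1 h))

include hout in
/-- The contradiction. -/
theorem no_inverted_set {ι : Type*} [Finite ι] (hι : 315 ≤ Nat.card ι) (f : ι → S)
    (hf : ∀ i, f i ∈ E.stay t) (hinv : ∀ i, t * φ (f i) * t⁻¹ = (φ (f i))⁻¹)
    (hinj : ∀ i j, InV w v ((f i)⁻¹ * f j) → i = j) : False := by
  classical
  obtain ⟨τ, hτ⟩ := E.exists_tau htt htw htv
  set V := E.F.four.subgroupOf (E.stay t) with hVdef
  haveI hN : V.Normal := ⟨fun x hx g => by
    rw [hVdef, mem_subgroupOf] at hx ⊢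
    rw [Subgroup.coe_mul, Subgroup.coe_mul, E.F.inV_central (E.mem_stay.1 g.2).1 hx, mul_assoc,
      Subgroup.coe_inv, mul_inv_cancel, mul_one]
    exact hx⟩
  have hτV : ∀ x : E.stay t, InV w v (x : S) → τ x = x := fun x hx =>
    Subtype.ext (E.inj ((hτ x).trans (E.conj_four htt htw htv hx)))
  have hττ : ∀ x : E.stay t, τ (τ x) = x := fun x =>
    Subtype.ext (E.inj (by rw [hτ, hτ, conj_conj_invol htt]))
  have hVle : V ≤ V.comap τ := fun x hx => by
    rw [mem_comap, hτV x (mem_subgroupOf.1 hx)]; exact hx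
  set σ : (E.stay t ⧸ V) →* (E.stay t ⧸ V) := QuotientGroup.map V V τ hVle with hσdef
  have hσ : ∀ x : E.stay t, σ x = (τ x : E.stay t ⧸ V) := fun x => rfl
  have hσσ : ∀ q, σ (σ q) = q := fun q => by
    induction q using QuotientGroup.induction_on with
    | _ x => rw [hσ, hσ, hττ]
  -- the quotient has odd order
  have hodd : Odd (Nat.card (E.stay t ⧸ V)) := by
    refine odd_card_of_no_fixed_invol σ hσσ fun q h2 h1 hfix => ?_
    induction q using QuotientGroup.induction_on with
    | _ x =>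
      rw [← QuotientGroup.mk_mul, QuotientGroup.eq_one_iff, hVdef, mem_subgroupOf, E.F.mem_four,
        Subgroup.coe_mul] at h2
      rw [Ne, QuotientGroup.eq_one_iff, hVdef, mem_subgroupOf, E.F.mem_four] at h1
      rw [hσ, QuotientGroup.eq, hVdef, mem_subgroupOf, E.F.mem_four] at hfix
      have hxH := (E.mem_stay.1 x.2).1
      obtain ⟨e, he, hau⟩ := E.F.exists_tr _ hxH (E.F.sq0 _ hxH h2) h1
      set d := (τ x : S)⁻¹ * (x : S) with hd
      have hd' : InV w v d := by simpa [hd] using hfix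
      have hux : (x : S) * e ∈ E.stay t := mul_mem x.2 (E.four_le_stay htt htw htv he)
      have himg : t * φ ((x : S) * e) * t⁻¹ = φ ((x : S) * e * d) := by
        rw [map_mul, ← conj_mul, ← hτ x, E.conj_four htt htw htv he, ← map_mul]
        congr 1
        have hc := E.F.inV_central (E.F.inV_inH he) hd'
        rw [mul_assoc (x : S), hc, ← mul_assoc]
        congr 1
        have hxd : (τ x : S) * d = x := by rw [hd, mul_inv_cancel_left]
        calc (τ x : S) = (τ x : S) * (d * d) := by rw [E.F.inV_sq hd', mul_one]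
          _ = _ := by rw [← mul_assoc, hxd]
      have had : IsConj a ((x : S) * e * d) := E.conj_a
        (himg ▸ (E.conj_z hau).trans (isConj_iff.2 ⟨t, rfl⟩)) (fun e' => by
          rw [e', map_one, conj_eq_one_iff, ← map_one φ] at himg
          exact E.ne_one_of_conj hau (E.inj himg))
      rw [E.F.unique_tr _ (E.mem_stay.1 hux).1 hau d hd' had, mul_one] at himg
      exact E.free_outside htt htw htv hout hux hau himg
  -- its order
  have h4 : Nat.card V = 4 := by
    rw [hVdef, Nat.card_congr (subgroupOfEquivOfLe (E.four_le_stay htt htw htv)).toEquiv, E.F.card_four]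
  have hle : E.stay t ≤ centralizer ({w} : Set S) ⊓ centralizer ({v} : Set S) := inf_le_left
  have hdvd : Nat.card (E.stay t ⧸ V) ∣ 20160 := by
    have hd := Subgroup.card_dvd_of_le hle
    rw [E.F.centre_card, Subgroup.card_eq_card_quotient_mul_card_subgroup V, h4] at hd
    exact Nat.dvd_of_mul_dvd_mul_right (by norm_num) (show _ ∣ 20160 * 4 from hd)
  have hdvd' : Nat.card (E.stay t ⧸ V) ∣ 315 := by
    have hco : Nat.Coprime (Nat.card (E.stay t ⧸ V)) (2 ^ 6) :=
      Nat.Coprime.pow_right 6 (Nat.coprime_two_right.2 hodd)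
    exact hco.dvd_of_dvd_mul_right (show _ ∣ 315 * 2 ^ 6 from hdvd)
  -- everything is inverted
  set g : ι → E.stay t ⧸ V := fun i => ((⟨f i, hf i⟩ : E.stay t) : E.stay t ⧸ V) with hg
  have hginj : Function.Injective g := fun i j hij => by
    have h : ((⟨f i, hf i⟩ : E.stay t) : E.stay t ⧸ V) = ((⟨f j, hf j⟩ : E.stay t) : E.stay t ⧸ V) := hij
    rw [QuotientGroup.eq, hVdef, mem_subgroupOf, E.F.mem_four] at h
    exact hinj i j h
  have hcard : Nat.card (E.stay t ⧸ V) = 315 := le_antisymm (Nat.le_of_dvd (by norm_num) hdvd')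
    (hι.trans (Nat.card_le_card_of_injective g hginj))
  have hsurj : Function.Surjective g :=
    (((Nat.bijective_iff_injective_and_card g).2 ⟨hginj, le_antisymm (Nat.card_le_card_of_injective g hginj)
      (by rw [hcard]; exact hι)⟩)).2
  have hall : ∀ q, σ q = q⁻¹ := by
    intro q
    obtain ⟨i, rfl⟩ := hsurj q
    rw [hg, hσ, ← QuotientGroup.mk_inv]
    congr 1
    exact Subtype.ext (E.inj (by rw [hτ, Subgroup.coe_inv, map_inv]; exact hinv i))
  have hcomm : ∀ p q : E.stay t ⧸ V, p * q = q * p := fun p q => by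
    have := hall (p⁻¹ * q⁻¹)
    rw [map_mul, hall, hall, inv_inv, inv_inv, mul_inv_rev, inv_inv, inv_inv] at this
    exact this
  haveI : (E.F.four.subgroupOf (E.stay t)).Normal := hN
  refine E.F.no_abelian_quotient (X := E.stay t) (fun x hx => (E.mem_stay.1 hx).1)
    (E.four_le_stay htt htw htv) (fun x hx y hy => ?_) (by
      show 35 ∣ Nat.card (E.stay t ⧸ V)
      rw [hcard]; norm_num)
  have hxy := hcomm ((⟨x, hx⟩ : E.stay t) : E.stay t ⧸ V) ((⟨y, hy⟩ : E.stay t) : E.stay t ⧸ V)
  have : (((⟨x, hx⟩ : E.stay t) * ⟨y, hy⟩ * (⟨x, hx⟩ : E.stay t)⁻¹ * (⟨y, hy⟩ : E.stay t)⁻¹ : E.stay t) :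
      E.stay t ⧸ V) = 1 := by
    rw [QuotientGroup.mk_mul, QuotientGroup.mk_mul, QuotientGroup.mk_mul, QuotientGroup.mk_inv,
      QuotientGroup.mk_inv, hxy]
    group
  rw [QuotientGroup.eq_one_iff, hVdef, mem_subgroupOf, E.F.mem_four] at this
  exact this

end Emb

end Cfsg.Agent.SuzRecog
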