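import Cfsg.Agent.Lib.SuzRecog.FourCent
import Cfsg.Agent.Lib.BrauerSuzuki.ZStar

/-!
The centraliser of the second involution lies in the copy.
-/

set_option autoImplicit false
set_option linter.unusedSectionVars false
set_option linter.style.haveILetI false

namespace Cfsg.Agent.SuzRecog

open Subgroup

variable {G : Type*} [Group G] [Finite G] {S : Type*} [Group S] [Finite S] {z : G} {φ : S →* G} {a w v : S}

theorem Facts.conj_four (F : Facts a w v) {c e : S} (hc : c * w = w * c) (he : InV w v e) :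
    InV w v (c * e * c⁻¹) := by
  have hw : c * w * c⁻¹ = w := mul_inv_eq_iff_eq_mul.2 hc
  have hv : InV w v (c * v * c⁻¹) := by
    rcases F.norm c hc with h | h
    · exact Or.inr (Or.inr (Or.inl h))
    · exact Or.inr (Or.inr (Or.inr h))
  rcases he with rfl | rfl | rfl | rfl
  · exact Or.inl (by group)
  · exact Or.inr (Or.inl hw)
  · exact hv
  · rw [← conj_mul, hw]
    exact F.inV_mul (Or.inr (Or.inl rfl)) hv

theorem Facts.conj_inH (F : Facts a w v) {c u : S} (hc : c * w = w * c) (hu : InH w v u) :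
    InH w v (c * u * c⁻¹) := by
  have hcu : ∀ e, InV w v e → (c * u * c⁻¹) * e = e * (c * u * c⁻¹) := by
    intro e he
    have h := F.inV_central hu (F.conj_four (c := c⁻¹)
      ((show Commute c w from hc).inv_left.eq) he)
    calc c * u * c⁻¹ * e = c * (u * (c⁻¹ * e * c⁻¹⁻¹)) * c⁻¹ := by group
      _ = c * (c⁻¹ * e * c⁻¹⁻¹ * u) * c⁻¹ := by rw [h]
      _ = _ := by group
  exact ⟨hcu w (Or.inr (Or.inl rfl)), hcu v (Or.inr (Or.inr (Or.inl rfl)))⟩

namespace Emb

variable (E : Emb z φ a w v)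
include E

theorem mem_of_conj_v {d : G} (hd : d * φ w = φ w * d) (ht : d * φ v * d⁻¹ ∈ φ.range) : d ∈ φ.range := by
  classical
  obtain ⟨t, htd⟩ := ht
  have htw : t * w = w * t := E.inj (by
    rw [map_mul, map_mul, htd]
    exact (((show Commute d (φ w) from hd).mul_left (show Commute (φ v) (φ w) by
      show _ = _; rw [← map_mul, ← map_mul, E.F.wv])).mul_left
      (show Commute d (φ w) from hd).inv_left).eq)
  have htt : t * t = 1 := E.inj (by
    rw [map_mul, htd, map_one, conj_mul, ← map_mul, E.F.v2, map_one]; group)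
  let T := {x : S // InH w v x ∧ IsConj a x}
  have hT : Odd (Nat.card T) := by
    rw [show Nat.card T = 315 from (Nat.card_coe_set_eq _).trans E.F.k315]; decide
  let f : T → T := fun x => ⟨t * x.1 * t⁻¹, E.F.conj_inH htw x.2.1, x.2.2.trans (isConj_iff.2 ⟨t, rfl⟩)⟩
  obtain ⟨u, hu⟩ := exists_fixed_of_odd f (fun x => Subtype.ext (conj_conj_invol htt x.1)) hT
  have hut : t * u.1 = u.1 * t := mul_inv_eq_iff_eq_mul.1 (congrArg Subtype.val hu)
  refine E.mem_of_conj_mem u.2.2 (E.four_cent ?_ ?_)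
  · exact (((show Commute d (φ w) from hd).inv_left.mul_left (show Commute (φ u.1) (φ w) by
      show _ = _; rw [← map_mul, ← map_mul, u.2.1.1])).mul_left (show Commute d (φ w) from hd)).eq
  · have h : φ u.1 * φ t = φ t * φ u.1 := by rw [← map_mul, ← map_mul, hut]
    rw [htd] at h
    calc d⁻¹ * φ u.1 * d * φ v = d⁻¹ * (φ u.1 * (d * φ v * d⁻¹)) * d := by group
      _ = d⁻¹ * (d * φ v * d⁻¹ * φ u.1) * d := by rw [h]
      _ = φ v * (d⁻¹ * φ u.1 * d) := by group

/-- The centraliser of the second involution. -/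
theorem invol_cent {g : G} (hg : g * φ w = φ w * g) : g ∈ φ.range := by
  classical
  set D := centralizer ({φ w} : Set G) with hD
  have memD : ∀ {x : G}, x ∈ D ↔ x * φ w = φ w * x := fun {x} => by
    rw [hD, mem_centralizer_singleton_iff]
  set W := (zpowers (φ w)).subgroupOf D with hW
  have hww : φ w * φ w = 1 := by rw [← map_mul, E.F.w2, map_one]
  have memW : ∀ {x : D}, x ∈ W ↔ (x : G) = 1 ∨ (x : G) = φ w := by
    intro x
    rw [hW, mem_subgroupOf]
    constructor
    · rintro ⟨i, hi⟩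
      rcases Int.even_or_odd i with ⟨k, rfl⟩ | ⟨k, rfl⟩
      · exact Or.inl (by rw [← hi]; show φ w ^ (k + k) = 1; rw [zpow_add, ← (Commute.refl (φ w)).mul_zpow, hww, one_zpow])
      · exact Or.inr (by
          rw [← hi]; show φ w ^ (2 * k + 1) = φ w
          rw [zpow_add, zpow_mul, zpow_one, show φ w ^ (2 : ℤ) = 1 by rw [zpow_two, hww], one_zpow, one_mul])
    · rintro (h | h) <;> rw [h]
      · exact one_mem _
      · exact mem_zpowers _
  haveI hWn : W.Normal := ⟨fun x hx k => by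
    rcases memW.1 hx with h | h
    · exact memW.2 (Or.inl (by simp [h]))
    · refine memW.2 (Or.inr ?_)
      rw [Subgroup.coe_mul, Subgroup.coe_mul, Subgroup.coe_inv, h, memD.1 k.2, mul_inv_cancel_right]⟩
  have hvD : φ v ∈ D := memD.2 (by rw [← map_mul, ← map_mul, E.F.wv])
  set vb : D ⧸ W := ((⟨φ v, hvD⟩ : D) : D ⧸ W) with hvb
  have hvv : φ v * φ v = 1 := by rw [← map_mul, E.F.v2, map_one]
  have hvo : orderOf vb = 2 := orderOf_eq_prime
    (by rw [pow_two, hvb, ← QuotientGroup.mk_mul, QuotientGroup.eq_one_iff]; exact memW.2 (Or.inl hvv))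
    (by
      rw [hvb, Ne, QuotientGroup.eq_one_iff]
      intro h
      rcases memW.1 h with h | h
      · exact E.F.v1 (E.inj (h.trans (map_one φ).symm))
      · exact E.F.v_ne (E.inj h))
  -- isolation
  have hiso : Cfsg.IsIsolated vb := by
    intro q hq
    induction q using QuotientGroup.induction_on with
    | _ d =>
      have hd := memD.1 d.2
      rw [hvb, ← QuotientGroup.mk_inv, ← QuotientGroup.mk_mul, ← QuotientGroup.mk_mul] at hq
      have hq' : ((⟨φ v, hvD⟩ * (d * ⟨φ v, hvD⟩ * d⁻¹) : D) : D ⧸ W) =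
          ((d * ⟨φ v, hvD⟩ * d⁻¹ * ⟨φ v, hvD⟩ : D) : D ⧸ W) := hq
      rw [QuotientGroup.eq] at hq'
      set t : G := (d : G) * φ v * (d : G)⁻¹ with ht
      have htt : t * t = 1 := by
        rw [ht, show (d : G) * φ v * (d : G)⁻¹ * ((d : G) * φ v * (d : G)⁻¹) = d * (φ v * φ v) * (d : G)⁻¹ by group,
          hvv]; group
      have htw : t * φ w = φ w * t :=
        (((show Commute (d : G) (φ w) from hd).mul_left (memD.1 hvD)).mul_left
          (show Commute (d : G) (φ w) from hd).inv_left).eq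
      have hmem : t ∈ φ.range := by
        have h : t * φ v = φ v * t ∨ t * φ v = φ v * t * φ w := by
          rcases memW.1 hq' with h | h
          · exact Or.inl (inv_mul_eq_one.1 (show (φ v * t)⁻¹ * (t * φ v) = 1 from h)).symm
          · exact Or.inr (inv_mul_eq_iff_eq_mul.1 (show (φ v * t)⁻¹ * (t * φ v) = φ w from h))
        obtain ⟨s, hsw, hsv⟩ := E.F.swap
        rcases h with h | h
        · exact E.four_cent htw h
        · have hst : φ s⁻¹ * t ∈ φ.range := E.four_cent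
            (((show Commute (φ s⁻¹) (φ w) from ((show Commute s w from hsw).inv_left).map φ).mul_left htw).eq) (by
              have htv : t * φ v * t⁻¹ = φ w * φ v := by
                rw [h, mul_assoc (φ v), htw, ← mul_assoc, ← map_mul, ← E.F.wv, map_mul, mul_inv_cancel_right]
              have hs' : φ (s * v * s⁻¹) = φ w * φ v := by rw [hsv, map_mul]
              calc φ s⁻¹ * t * φ v = φ s⁻¹ * (t * φ v * t⁻¹) * t := by group
                _ = φ s⁻¹ * φ (s * v * s⁻¹) * t := by rw [htv, hs']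
                _ = φ v * (φ s⁻¹ * t) := by simp [map_mul, mul_assoc])
          have := mul_mem (show φ s ∈ φ.range from ⟨s, rfl⟩) hst
          rwa [← mul_assoc, ← map_mul, mul_inv_cancel, map_one, one_mul] at this
      obtain ⟨k, hk⟩ := E.mem_of_conj_v hd hmem
      have hkw : k * w = w * k := E.inj (by rw [map_mul, map_mul, hk]; exact hd)
      rw [hvb, ← QuotientGroup.mk_inv, ← QuotientGroup.mk_mul, ← QuotientGroup.mk_mul, QuotientGroup.eq]
      rcases E.F.norm k hkw with h | h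
      · refine memW.2 (Or.inl ?_)
        show ((d : G) * φ v * (d : G)⁻¹)⁻¹ * φ v = 1
        rw [← hk, ← map_inv, ← map_mul, ← map_mul, h, inv_mul_cancel]
      · refine memW.2 (Or.inr ?_)
        show ((d : G) * φ v * (d : G)⁻¹)⁻¹ * φ v = φ w
        rw [← hk, ← map_inv, ← map_mul, ← map_mul, h, ← map_inv, ← map_mul]
        congr 1
        rw [E.F.wv, mul_inv_rev, mul_assoc, inv_mul_cancel, mul_one, inv_eq_of_mul_eq_one_right E.F.w2]
  have hz := BrauerSuzuki.zStar (D ⧸ W) vb hvo hiso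
  -- the odd core comes from the copy
  set O := Cfsg.pPrimeCore 2 (D ⧸ W) with hO
  haveI hOn : O.Normal := Cfsg.Agent.FittingCores.pPrimeCore_normal 2
  have hodd : Odd (Nat.card O) := by
    rw [← Nat.not_even_iff_odd, even_iff_two_dvd]
    exact fun h' => Nat.prime_two.coprime_iff_not_dvd.1
      (Cfsg.Agent.FittingCores.pPrimeCore_coprime (G := D ⧸ W) 2).symm h'
  obtain ⟨u₁, u₂, h1, h2, ha1, ha2, h12, ha3⟩ := E.F.triple
  have inD : ∀ {u : S}, InH w v u → φ u ∈ D := fun {u} hu => memD.2 (by rw [← map_mul, ← map_mul, hu.1])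
  let qi : ∀ u : S, InH w v u → D ⧸ W := fun u hu => ((⟨φ u, inD hu⟩ : D) : D ⧸ W)
  have hqsq : ∀ u hu, IsConj a u → qi u hu * qi u hu = 1 := fun u hu hau => by
    obtain ⟨c, rfl⟩ := isConj_iff.1 hau
    show ((⟨φ (c * a * c⁻¹), _⟩ * ⟨φ (c * a * c⁻¹), _⟩ : D) : D ⧸ W) = 1
    rw [QuotientGroup.eq_one_iff]
    refine memW.2 (Or.inl ?_)
    show φ (c * a * c⁻¹) * φ (c * a * c⁻¹) = 1
    rw [← map_mul, conj_mul, E.F.a2]
    simp
  have h3 : InH w v (u₁ * u₂) :=
    ⟨((show Commute u₁ w from h1.1).mul_left (show Commute u₂ w from h2.1)).eq,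
      ((show Commute u₁ v from h1.2).mul_left (show Commute u₂ v from h2.2)).eq⟩
  have hqm : qi u₁ h1 * qi u₂ h2 = qi (u₁ * u₂) h3 := by
    show ((⟨φ u₁, _⟩ * ⟨φ u₂, _⟩ : D) : D ⧸ W) = _
    congr 1
    exact Subtype.ext (map_mul φ u₁ u₂).symm
  have hqc : Commute (qi u₁ h1) (qi u₂ h2) := by
    show ((⟨φ u₁, _⟩ * ⟨φ u₂, _⟩ : D) : D ⧸ W) = ((⟨φ u₂, _⟩ * ⟨φ u₁, _⟩ : D) : D ⧸ W)
    congr 1
    exact Subtype.ext (by show φ u₁ * φ u₂ = φ u₂ * φ u₁; rw [← map_mul, h12, map_mul])
  have hgen := U43T.le_closure_fixed (E := O) hodd (hqsq _ h1 ha1) (hqsq _ h2 ha2) hqc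
    (fun e he => hOn.conj_mem e he _) (fun e he => hOn.conj_mem e he _)
  have key : ∀ (u : S) (hu : InH w v u), IsConj a u → ∀ x : D, Commute (x : D ⧸ W) (qi u hu) →
      (x : G) ∈ φ.range := by
    intro u hu hau x hx
    have hx' : ((x * ⟨φ u, inD hu⟩ : D) : D ⧸ W) = ((⟨φ u, inD hu⟩ * x : D) : D ⧸ W) := hx
    rw [QuotientGroup.eq] at hx'
    rcases memW.1 hx' with h | h
    · exact E.cent_conj hau (inv_mul_eq_one.1 (show ((x : G) * φ u)⁻¹ * (φ u * (x : G)) = 1 from h))
    · exfalso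
      have h' : φ u * (x : G) = (x : G) * φ u * φ w :=
        inv_mul_eq_iff_eq_mul.1 (show ((x : G) * φ u)⁻¹ * (φ u * (x : G)) = φ w from h)
      have hc : IsConj z (φ (u * w)) := by
        refine (E.conj_z hau).trans (isConj_iff.2 ⟨(x : G)⁻¹, ?_⟩)
        rw [map_mul, inv_inv, mul_assoc, h']; group
      refine E.F.w1 (E.F.unique_tr u hu hau w (Or.inr (Or.inl rfl)) (E.conj_a hc fun e => ?_))
      have huw : u = w := (eq_inv_of_mul_eq_one_left e).trans (inv_eq_of_mul_eq_one_right E.F.w2)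
      exact E.F.nconj (huw ▸ hau)
  have hsub : O ≤ (φ.range.subgroupOf D).map (QuotientGroup.mk' W) := by
    refine hgen.trans ((closure_le _).2 ?_)
    rintro q ⟨-, hq⟩
    induction q using QuotientGroup.induction_on with
    | _ x =>
      refine ⟨x, ?_, rfl⟩
      show (x : G) ∈ φ.range
      rcases hq with hq | hq | hq
      · exact key u₁ h1 ha1 x hq
      · exact key u₂ h2 ha2 x hq
      · exact key _ h3 ha3 x (hqm ▸ hq)
  have hpre : ∀ x : D, (x : D ⧸ W) ∈ O → (x : G) ∈ φ.range := by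
    intro x hx
    obtain ⟨y, hy, hyx⟩ := hsub hx
    have hyW : y⁻¹ * x ∈ W := QuotientGroup.eq.1 hyx
    rw [show (x : G) = (y : G) * ((y⁻¹ * x : D) : G) by
      rw [Subgroup.coe_mul, Subgroup.coe_inv, mul_inv_cancel_left]]
    refine mul_mem hy ?_
    rcases memW.1 hyW with h | h <;> rw [h]
    · exact one_mem _
    · exact ⟨w, rfl⟩
  refine E.mem_of_conj_v hg ?_
  have hgD : g ∈ D := memD.2 hg
  have hh := hpre ((⟨g, hgD⟩ : D) * (⟨φ v, hvD⟩ : D) * (⟨g, hgD⟩ : D)⁻¹ * (⟨φ v, hvD⟩ : D)⁻¹)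
    (hz ((⟨g, hgD⟩ : D) : D ⧸ W))
  have := mul_mem hh (show φ v ∈ φ.range from ⟨v, rfl⟩)
  simpa [mul_assoc] using this

end Emb

end Cfsg.Agent.SuzRecog
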