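import Cfsg.Agent.Lib.SuzRecog.Checks
import Cfsg.Agent.Lib.SuzRecog.Facts
import Cfsg.Agent.Lib.RigidGraph.Suz.Presented
import Mathlib.Tactic

/-!
The elements behind the words, the first generator of the presented group, and the two centraliser bounds.
-/

set_option autoImplicit false
set_option maxRecDepth 100000
set_option Elab.async false

namespace Cfsg.Agent.SuzRecog

open Subgroup
open Cfsg.Agent.SuzOut (evW okWord okWord_mem wordVal wordVal_append act_word grp_aut keyOf keyG keyG_word keyG_inj base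
  base_lt eq_of_key key_of_eq eq_one_iff keyP_inj sigIf)
open Cfsg.Agent.RigidGraph (slot permOK permOf permOf_val fixList fixList_nil autG cntB cntB_eq_fin)
open Cfsg.Agent.RigidGraph.Suz (suzGroup graph)

attribute [local irreducible] wordVal graph RigidGraph.Suz.nodes RigidGraph.permOf SuzOut.lets RigidGraph.Suz.outer
  RigidGraph.Suz.relabel

/-- The element of a packed word. -/
noncomputable def el (m : ℕ) : ↥suzGroup := wordVal (dW m)

/-- The first involution. -/
noncomputable def eA : ↥suzGroup := wordVal wA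

/-- The second involution. -/
noncomputable def eW : ↥suzGroup := wordVal wW

/-- The other generator of the four group. -/
noncomputable def eV : ↥suzGroup := wordVal wV

/-- The base of the class in the centraliser of the four group. -/
noncomputable def eU : ↥suzGroup := wordVal wU

theorem sameW_spec {x y : List ℕ} (h : sameW x y = true) : wordVal x = wordVal y := by
  simp only [sameW, Bool.and_eq_true, beq_iff_eq] at h
  exact eq_of_key (okWord_mem h.1.1) (okWord_mem h.1.2) h.2

theorem commW_spec {x y : List ℕ} (h : commW x y = true) : wordVal x * wordVal y = wordVal y * wordVal x := by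
  rw [← wordVal_append, ← wordVal_append]
  exact sameW_spec h

theorem sameW_conj {c x y : List ℕ} (h : sameW (c ++ x) (y ++ c) = true) :
    wordVal c * wordVal x * (wordVal c)⁻¹ = wordVal y := by
  have h1 := sameW_spec h
  rw [wordVal_append, wordVal_append] at h1
  rw [h1, mul_inv_cancel_right]

theorem oneW_spec {x : List ℕ} (h : oneW x = true) : wordVal x = 1 := by
  simp only [oneW, Bool.and_eq_true, beq_iff_eq] at h
  exact (eq_one_iff (okWord_mem h.1)).2 h.2

theorem neOneW_spec {x : List ℕ} (h : neOneW x = true) : wordVal x ≠ 1 := by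
  simp only [neOneW, Bool.and_eq_true, Bool.not_eq_true', beq_eq_false_iff_ne] at h
  exact fun e => h.2 ((eq_one_iff (okWord_mem h.1)).1 e)

theorem ne_spec {x y : List ℕ} (hx : okWord x = true) (hy : okWord y = true) (h : (keyOf x == keyOf y) = false) :
    wordVal x ≠ wordVal y := fun e => by
  rw [beq_eq_false_iff_ne] at h
  exact h (key_of_eq (okWord_mem hx) (okWord_mem hy) e)

theorem okWord_append {x y : List ℕ} : okWord (x ++ y) = (okWord x && okWord y) := by
  simp [okWord]

theorem okWord_commW {x y : List ℕ} (h : commW x y = true) : okWord x = true ∧ okWord y = true := by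
  simp only [commW, sameW, Bool.and_eq_true, okWord_append] at h
  exact h.1.1

theorem basic_spec : eA * eA = 1 ∧ eW * eW = 1 ∧ eV * eV = 1 ∧ eW ≠ 1 ∧ eV ≠ 1 ∧ eV ≠ eW ∧ eW * eV = eV * eW ∧
    fixW wA = 54 ∧ fixW wW = 42 ∧ fixW wV = 42 ∧ fixW (wW ++ wV) = 42 ∧ el nS * eW = eW * el nS ∧
    el nS * eV * (el nS)⁻¹ = eW * eV ∧ eU * eW = eW * eU ∧ eU * eV = eV * eU ∧
    el nUc * eA * (el nUc)⁻¹ = eU := by
  have h := basic_ok
  simp only [basicOK, Bool.and_eq_true, Nat.beq_eq, Bool.not_eq_true'] at h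
  obtain ⟨⟨⟨⟨⟨⟨⟨⟨⟨⟨⟨⟨⟨⟨⟨hA, hW⟩, hV⟩, hW1⟩, hV1⟩, hVW⟩, hWV⟩, fA⟩, fW⟩, fV⟩, fWV⟩, hS⟩, hSV⟩, hUW⟩, hUV⟩, hUc⟩ := h
  have hk : ∀ {x : List ℕ}, oneW (x ++ x) = true → wordVal x * wordVal x = 1 := fun h => by
    rw [← wordVal_append]; exact oneW_spec h
  refine ⟨hk hA, hk hW, hk hV, neOneW_spec hW1, neOneW_spec hV1, ne_spec ?_ ?_ hVW, commW_spec hWV, fA, fW, fV,
    fWV, commW_spec hS, ?_, commW_spec hUW, commW_spec hUV, sameW_conj hUc⟩
  · exact (okWord_commW hWV).2
  · exact (okWord_commW hWV).1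
  · have h1 := sameW_conj hSV
    rwa [wordVal_append] at h1

/-- The fixed points. -/
noncomputable def fixSet (g : ↥suzGroup) : Set (Fin 1782) := {p | (g : Equiv.Perm (Fin 1782)) p = p}

theorem fixW_eq {x : List ℕ} (hx : okWord x = true) : (fixSet (wordVal x)).ncard = fixW x := by
  rw [fixW, cntB_eq_fin, ← Set.ncard_coe_finset]
  congr 1
  ext p
  simp only [fixSet, Set.mem_ofPred_eq, Finset.mem_coe, Finset.mem_filter, Finset.mem_univ, true_and, Nat.beq_eq]
  rw [← act_word x (okWord_mem hx) p, Fin.ext_iff]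

theorem fixSet_conj (c g : ↥suzGroup) :
    (fixSet (c * g * c⁻¹)).ncard = (fixSet g).ncard := by
  rw [← Set.ncard_image_of_injective (fixSet g) (c : Equiv.Perm (Fin 1782)).injective]
  congr 1
  ext p
  constructor
  · intro hp
    refine ⟨(c : Equiv.Perm (Fin 1782))⁻¹ p, ?_, by simp⟩
    simp only [fixSet, Set.mem_ofPred_eq, Subgroup.coe_mul, Subgroup.coe_inv, Equiv.Perm.mul_apply] at hp ⊢
    exact (c : Equiv.Perm (Fin 1782)).injective (by simpa using hp)
  · rintro ⟨q, hq, rfl⟩
    simp only [fixSet, Set.mem_ofPred_eq, Subgroup.coe_mul, Subgroup.coe_inv, Equiv.Perm.mul_apply] at hq ⊢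
    simp [hq]

theorem not_conj_of_fix {x y : ↥suzGroup} (h : (fixSet x).ncard ≠ (fixSet y).ncard) : ¬ IsConj x y := fun hc => by
  obtain ⟨c, rfl⟩ := isConj_iff.1 hc
  exact h (fixSet_conj c x).symm

/-- The first generator acts as the first involution. -/
noncomputable def genAOK : Bool :=
  okWord wA && base.map (fun b => slot RigidGraph.Suz.relabel.2
    (CosetCert.tact CosetData.SuzA.P [0] (slot RigidGraph.Suz.relabel.1 b))) == keyOf wA

theorem genA_ok : genAOK = true := by decide +kernel

theorem presentedEquiv_a :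
    RigidGraph.Suz.presentedEquiv (PresentedGroup.of Cfsg.Spor.Suz.Gen.a) = eA := by
  have hrel := RigidGraph.Suz.relabel_ok
  simp only [RigidGraph.Suz.relabelOK, Bool.and_eq_true] at hrel
  have hp : permOK 1782 RigidGraph.Suz.relabel = true := hrel.1.1.1
  have h := genA_ok
  simp only [genAOK, Bool.and_eq_true, beq_iff_eq] at h
  refine keyG_inj ?_
  rw [eA, keyG_word (okWord_mem h.1), ← h.2]
  refine List.map_congr_left fun b hb => ?_
  rw [dif_pos (base_lt hb)]
  have hv := RigidGraph.Suz.toPerm_val hp [0] (by simp) ⟨b, base_lt hb⟩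
  rw [CosetCert.wprod_cons, CosetCert.wprod_nil, mul_one] at hv
  exact hv

/-- The generators of the centraliser of the first involution. -/
def genA : List ℕ := loLevels.flatMap (·.gens)

/-- The subgroup generated by them. -/
noncomputable def centA : Subgroup ↥suzGroup := closure {g | ∃ m ∈ genA, g = el m}

theorem centA_le : centA ≤ centralizer ({eA} : Set ↥suzGroup) := by
  have h := extra_ok
  simp only [extraOK, Bool.and_eq_true, List.all_eq_true] at h
  rw [centA, closure_le]
  rintro _ ⟨m, hm, rfl⟩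
  exact mem_centralizer_singleton_iff.2 (commW_spec (h.1.1.1.1.1 m hm).1)

theorem le_card_centA : 3317760 ≤ Nat.card centA := by
  have h := lower_spec (centA.map suzGroup.subtype) loLevels [] lower_ok fun L hL g hg =>
    ⟨el g, subset_closure ⟨g, List.mem_flatMap.2 ⟨L, hL, hg⟩, rfl⟩, rfl⟩
  rw [lo_prod, fixList_nil, inf_top_eq, card_map_of_injective suzGroup.subtype_injective] at h
  exact h

theorem sign_wordVal (x : List ℕ) : Equiv.Perm.sign (wordVal x : Equiv.Perm (Fin 1782)) = 1 :=
  RigidGraph.Suz.sign_grp (wordVal x).2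

theorem card_centW : Nat.card ↥(centralizer ({eW} : Set ↥suzGroup)) ≤ 161280 := by
  have h := outer_comm
  simp only [outerOK, Bool.and_eq_true, beq_iff_eq] at h
  obtain ⟨⟨hr, hw⟩, hkey⟩ := h
  set W : Equiv.Perm (Fin 1782) := (wordVal wW : Equiv.Perm (Fin 1782))
  set R : ℕ × ℕ × ℕ × List ℕ := (0, 0, 1, dW nR)
  set σ := SuzOut.rowPerm R
  have hr8 := okWord_mem hr
  have hW : ∀ x : Fin 1782, (W x : ℕ) = evW wW x := act_word _ (okWord_mem hw)
  have hσm : σ ∈ autG 1782 graph := SuzOut.rowPerm_mem R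
  have hσW : σ * W = W * σ := by
    refine keyP_inj (mul_mem hσm (grp_aut (wordVal wW).2)) (mul_mem (grp_aut (wordVal wW).2) hσm) ?_
    refine List.map_congr_left fun b hb => ?_
    rw [dif_pos (base_lt hb), dif_pos (base_lt hb), Equiv.Perm.mul_apply, Equiv.Perm.mul_apply,
      SuzOut.rowPerm_val hr8, hW, hW, SuzOut.rowPerm_val hr8]
    exact List.map_inj_left.1 hkey b hb
  have hσs : Equiv.Perm.sign σ = -1 := by
    show Equiv.Perm.sign ((bif Nat.beq 1 0 then 1 else permOf 1782 RigidGraph.Suz.outer) *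
      (wordVal (dW nR) : Equiv.Perm (Fin 1782))) = -1
    rw [map_mul, sign_wordVal, mul_one]
    exact RigidGraph.Suz.sign_outer
  set C := (centralizer ({eW} : Set ↥suzGroup)).map suzGroup.subtype
  have hC : C ≤ autCent wW := by
    rintro _ ⟨c, hc, rfl⟩
    exact ⟨grp_aut c.2, mem_centralizer_singleton_iff.2
      (congrArg Subtype.val (mem_centralizer_singleton_iff.1 hc))⟩
  have hσC : σ ∈ autCent wW := ⟨hσm, mem_centralizer_singleton_iff.2 hσW⟩
  have hu := upper_spec hw upLevels [] upper_ok (by simp)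
  rw [up_prod, fixList_nil, inf_top_eq] at hu
  have hdisj : ∀ c ∈ C, σ * c ∉ C := by
    rintro c ⟨c', -, rfl⟩ ⟨d, -, hd⟩
    have h1 : Equiv.Perm.sign (σ * (c' : Equiv.Perm (Fin 1782))) = 1 := by
      rw [show σ * (c' : Equiv.Perm (Fin 1782)) = d from hd.symm]; exact RigidGraph.Suz.sign_grp d.2
    rw [map_mul, hσs, RigidGraph.Suz.sign_grp c'.2, mul_one] at h1
    exact RigidGraph.Suz.neg_one_ne h1
  have hsub : (C : Set (Equiv.Perm (Fin 1782))) ∪ (fun c => σ * c) '' C ⊆ autCent wW := by
    rintro x (hx | ⟨c, hc, rfl⟩)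
    · exact hC hx
    · exact mul_mem hσC (hC hc)
  have hn := Set.ncard_le_ncard hsub (Set.toFinite _)
  rw [Set.ncard_union_eq (Set.disjoint_left.2 fun x hx => by rintro ⟨c, hc, rfl⟩; exact hdisj c hc hx)
    (Set.toFinite _) (Set.toFinite _), Set.ncard_image_of_injective _ (mul_right_injective σ)] at hn
  rw [← card_map_of_injective suzGroup.subtype_injective (K := centralizer ({eW} : Set ↥suzGroup))]
  have h1 : ∀ K : Subgroup (Equiv.Perm (Fin 1782)), Nat.card K = (K : Set (Equiv.Perm (Fin 1782))).ncard :=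
    fun K => Nat.card_coe_set_eq _
  show Nat.card C ≤ _
  rw [h1] at hu ⊢
  omega

end Cfsg.Agent.SuzRecog
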